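import Groth.Agent.Lib.EtEff25.Extend
import Groth.Agent.Lib.HensProper6.Apps
import Groth.Agent.Lib.SetsGabber24.HensIntegral

/-!
# Proper and integral schemes over henselian pairs lift clopens of finite covers
-/

set_option autoImplicit false
set_option linter.style.haveILetI false
universe u

open CategoryTheory CategoryTheory.Limits AlgebraicGeometry

namespace Groth.Agent.EtEff25

variable {A : Type u} [CommRing A] {I : Ideal A} {Z Z₀ : Scheme.{u}} {i : Z₀ ⟶ Z}

theorem finiteClopenLift_of_proper (hA : HenselianRing A I) (f : Z ⟶ Spec (CommRingCat.of A)) [IsProper f]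
    (hi : Set.range i = f ⁻¹' PrimeSpectrum.zeroLocus (I : Set A)) : FiniteClopenLift i := by
  intro W π hπ
  have h := HensProper6.clopenLift_val hA (π ≫ f)
  rwa [show (π ≫ f) ⁻¹' PrimeSpectrum.zeroLocus (I : Set A) = π ⁻¹' Set.range i by rw [hi]; rfl] at h

theorem finiteClopenLift_of_integral (hA : HenselianRing A I) (f : Z ⟶ Spec (CommRingCat.of A))
    [IsIntegralHom f] (hi : Set.range i = f ⁻¹' PrimeSpectrum.zeroLocus (I : Set A)) : FiniteClopenLift i := by
  intro W π hπ
  haveI : IsIntegralHom π := inferInstance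
  have h := SetsGabber24.clopenLift_integral hA (π ≫ f)
  rwa [show (π ≫ f) ⁻¹' PrimeSpectrum.zeroLocus (I : Set A) = π ⁻¹' Set.range i by rw [hi]; rfl] at h

end Groth.Agent.EtEff25
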