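import Groth.Agent.Lib.ProperPush24.Descend
import Groth.Agent.Lib.IsQuot25.Torsor

/-!
# Sections of separated étale schemes over a local algebra come from an étale stage
-/

set_option autoImplicit false
set_option linter.style.haveILetI false
set_option backward.isDefEq.respectTransparency false
set_option backward.isDefEq.respectTransparency.types false
universe u

open CategoryTheory CategoryTheory.Limits AlgebraicGeometry Opposite

namespace Groth.Agent.EtEff25

local notation "scmp" => Groth.Agent.ProperPush24.cmp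

open Groth.Agent.ProperPush24 (Stage HasLifts exists_open_stage exists_open_disjoint exists_dominate_finset
  exists_affine_stage)

variable {Y : Scheme.{u}} {A : Type u} [CommRing A] [IsLocalRing A] {α : Spec (CommRingCat.of A) ⟶ Y}

theorem cmp_map {T₀ T T' : Stage α} {W : Scheme.{u}} (p : W ⟶ T₀.V.left) (m : T.V ⟶ T₀.V)
    (hm : T.a ≫ m.left = T₀.a) (m' : T'.V ⟶ T₀.V) (hm' : T'.a ≫ m'.left = T₀.a) (n : T'.V ⟶ T.V)
    (hn : T'.a ≫ n.left = T.a) (e : n.left ≫ m.left = m'.left) :
    scmp p m' hm' ≫ pullback.map p m'.left p m.left (𝟙 _) n.left (𝟙 _) (by simp) (by simp [e]) =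
      scmp p m hm := by
  apply pullback.hom_ext <;> simp [ProperPush24.cmp, pullback.map, hn]

/-- Finitely many stages over a given one are dominated over it. -/
theorem exists_common {κ : Type*} (T₀ : Stage α) (F : Finset κ) (Tk : κ → Stage α) (mk : ∀ k, (Tk k).V ⟶ T₀.V)
    (hmk : ∀ k, (Tk k).a ≫ (mk k).left = T₀.a) :
    ∃ (T : Stage α) (m : T.V ⟶ T₀.V) (_ : T.a ≫ m.left = T₀.a), ∀ k ∈ F, ∃ n : T.V ⟶ (Tk k).V,
      n.left ≫ (mk k).left = m.left ∧ T.a ≫ n.left = (Tk k).a := by
  classical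
  induction F using Finset.induction with
  | empty => exact ⟨T₀, 𝟙 _, Category.comp_id _, fun k hk => absurd hk (Finset.notMem_empty k)⟩
  | insert j F hj ih =>
    obtain ⟨T, m, hm, hF⟩ := ih
    haveI : Etale T₀.V.hom := T₀.V.prop
    haveI : Etale T.V.hom := T.V.prop
    haveI : Etale (Tk j).V.hom := (Tk j).V.prop
    haveI : Etale (m.left ≫ T₀.V.hom) := by rw [MorphismProperty.Over.w]; exact T.V.prop
    haveI : Etale ((mk j).left ≫ T₀.V.hom) := by rw [MorphismProperty.Over.w]; exact (Tk j).V.prop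
    haveI : Etale m.left := Etale.of_comp m.left T₀.V.hom
    haveI : Etale (mk j).left := Etale.of_comp (mk j).left T₀.V.hom
    let P : Y.Etale := MorphismProperty.Over.mk ⊤ (pullback.fst m.left (mk j).left ≫ T.V.hom) (by infer_instance)
    let a : Spec (CommRingCat.of A) ⟶ pullback m.left (mk j).left := pullback.lift T.a (Tk j).a (hm.trans (hmk j).symm)
    obtain ⟨T', l, hl⟩ := exists_affine_stage (α := α) P a (by
      show a ≫ pullback.fst m.left (mk j).left ≫ T.V.hom = α
      exact ((pullback.lift_fst_assoc _ _ _ _)).trans T.w)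
    let n₀ : T'.V ⟶ T.V := MorphismProperty.Over.homMk (l.left ≫ pullback.fst m.left (mk j).left) (by
      show (l.left ≫ pullback.fst m.left (mk j).left) ≫ T.V.hom = T'.V.hom
      rw [Category.assoc]; exact MorphismProperty.Over.w l)
    let n₁ : T'.V ⟶ (Tk j).V := MorphismProperty.Over.homMk (l.left ≫ pullback.snd m.left (mk j).left) (by
      show (l.left ≫ pullback.snd m.left (mk j).left) ≫ (Tk j).V.hom = T'.V.hom
      refine Eq.trans ?_ (MorphismProperty.Over.w l)
      refine (Category.assoc _ _ _).trans (congrArg (l.left ≫ ·) ?_)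
      show pullback.snd m.left (mk j).left ≫ (Tk j).V.hom = pullback.fst m.left (mk j).left ≫ T.V.hom
      rw [← MorphismProperty.Over.w (mk j), ← pullback.condition_assoc, MorphismProperty.Over.w m])
    have h₀ : T'.a ≫ n₀.left = T.a := by
      show T'.a ≫ l.left ≫ _ = _
      rw [← Category.assoc, hl]; exact pullback.lift_fst _ _ _
    refine ⟨T', n₀ ≫ m, ?_, fun k hk => ?_⟩
    · show T'.a ≫ n₀.left ≫ m.left = _
      rw [← Category.assoc, h₀, hm]
    · rcases Finset.mem_insert.1 hk with rfl | hk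
      · refine ⟨n₁, ?_, ?_⟩
        · show (l.left ≫ pullback.snd m.left _) ≫ _ = (l.left ≫ pullback.fst m.left _) ≫ m.left
          exact (Category.assoc _ _ _).trans ((congrArg (l.left ≫ ·) pullback.condition.symm).trans (Category.assoc _ _ _).symm)
        · show T'.a ≫ l.left ≫ _ = _
          rw [← Category.assoc, hl]; exact pullback.lift_snd _ _ _
      · obtain ⟨n, hn, hn'⟩ := hF k hk
        refine ⟨n₀ ≫ n, ?_, ?_⟩
        · show (n₀.left ≫ n.left) ≫ (mk k).left = n₀.left ≫ m.left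
          rw [Category.assoc, hn]
        · show T'.a ≫ n₀.left ≫ n.left = _
          rw [← Category.assoc, h₀, hn']

set_option maxHeartbeats 1000000 in
/-- A section of a separated étale scheme over the local algebra comes from a stage. -/
theorem exists_stage_section [Flat α] (hL : HasLifts α) (T₀ : Stage α) {W X' : Scheme.{u}}
    (p : W ⟶ T₀.V.left) [QuasiCompact p] [QuasiSeparated p] (q : X' ⟶ W) [Etale q] [IsSeparated q]
    (t : pullback p T₀.a ⟶ X') (ht : t ≫ q = pullback.fst p T₀.a) :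
    ∃ (T : Stage α) (m : T.V ⟶ T₀.V) (hm : T.a ≫ m.left = T₀.a) (s : pullback p m.left ⟶ X'),
      s ≫ q = pullback.fst p m.left ∧ scmp p m hm ≫ s = t := by
  classical
  haveI : IsAffine T₀.V.left := T₀.affine
  haveI : CompactSpace (pullback p T₀.a : Scheme.{u}) := QuasiCompact.compactSpace_of_compactSpace (pullback.snd p T₀.a)
  -- the image of the section
  let π : pullback (q ≫ p) T₀.a ⟶ pullback p T₀.a :=
    pullback.map (q ≫ p) T₀.a p T₀.a q (𝟙 _) (𝟙 _) (by simp) (by simp)
  let τ : pullback p T₀.a ⟶ pullback (q ≫ p) T₀.a :=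
    pullback.lift t (pullback.snd p T₀.a) (by rw [reassoc_of% ht]; exact pullback.condition)
  have hτπ : τ ≫ π = 𝟙 _ := by apply pullback.hom_ext <;> simp [τ, π, ht]
  have hπsq : IsPullback π (pullback.fst (q ≫ p) T₀.a) (pullback.fst p T₀.a) q :=
    (IsPullback.of_bot (h₁₁ := pullback.fst (q ≫ p) T₀.a) (v₁₁ := π) (v₁₂ := q) (h₂₁ := pullback.fst p T₀.a)
      (v₂₁ := pullback.snd p T₀.a) (v₂₂ := p) (h₃₁ := T₀.a)
      (by simpa [π] using IsPullback.of_hasPullback (q ≫ p) T₀.a)
      (by simp [π]) (IsPullback.of_hasPullback p T₀.a)).flip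
  haveI : Etale π := MorphismProperty.of_isPullback hπsq.flip ‹Etale q›
  haveI : IsOpenImmersion τ := IsQuot25.isOpenImmersion_section π τ hτπ
  let M : Set (pullback (q ≫ p) T₀.a : Scheme.{u}) := Set.range τ
  have hM : IsOpen M := τ.isOpenEmbedding.isOpen_range
  -- finitely many affine pieces at one stage
  choose Tz mz hmz Oz hOz hzO hOM using fun z : (pullback p T₀.a : Scheme.{u}) =>
    exists_open_stage hL T₀ (q ≫ p) hM (τ z) ⟨z, rfl⟩
  let U : ↥(pullback p T₀.a) → Set ↥(pullback p T₀.a) := fun z =>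
    (τ ≫ scmp (q ≫ p) (mz z) (hmz z)) ⁻¹' (Oz z : Set _)
  obtain ⟨F, hF⟩ := isCompact_univ.elim_finite_subcover U
    (fun z => (Oz z).2.preimage (τ ≫ scmp (q ≫ p) (mz z) (hmz z)).continuous)
    (fun z _ => Set.mem_iUnion.2 ⟨z, by
      show (τ ≫ scmp (q ≫ p) (mz z) (hmz z)) z ∈ Oz z
      rw [Scheme.Hom.comp_apply]; exact hzO z⟩)
  obtain ⟨T, m, hm, hn⟩ := exists_common T₀ F Tz mz hmz
  haveI : ∀ T' : Stage α, IsAffine T'.V.left := fun T' => T'.affine
  -- the open piece at the stage
  let PT := pullback (q ≫ p) m.left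
  choose n hnm hna using hn
  let μ : ∀ z (hz : z ∈ F), PT ⟶ pullback (q ≫ p) (mz z).left := fun z hz =>
    pullback.map (q ≫ p) m.left (q ≫ p) (mz z).left (𝟙 _) (n z hz).left (𝟙 _) (by simp) (by simp [hnm z hz])
  haveI : ∀ z (hz : z ∈ F), IsAffineHom (n z hz).left := fun z hz => inferInstance
  have hμaff : ∀ z (hz : z ∈ F), IsAffineHom (μ z hz) := fun z hz => by
    haveI : IsAffineHom (μ z hz ≫ pullback.fst (q ≫ p) (mz z).left) := by
      rw [show μ z hz ≫ pullback.fst _ _ = pullback.fst (q ≫ p) m.left by simp [μ]]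
      exact MorphismProperty.pullback_fst _ _ inferInstance
    exact IsAffineHom.of_comp (μ z hz) (pullback.fst (q ≫ p) (mz z).left)
  let O : PT.Opens := ⨆ z : F, μ z.1 z.2 ⁻¹ᵁ Oz z.1
  have hOc : IsCompact (O : Set PT) := by
    simp only [O, TopologicalSpace.Opens.coe_iSup]
    refine isCompact_iUnion fun z => ?_
    haveI := hμaff z.1 z.2
    exact ((hOz z.1).preimage (μ z.1 z.2)).isCompact
  haveI : CompactSpace O.toScheme := isCompact_iff_compactSpace.1 hOc
  have hO₁ : ∀ x, scmp (q ≫ p) m hm x ∈ O → x ∈ M := by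
    intro x hx
    obtain ⟨⟨z, hz⟩, hzx⟩ := TopologicalSpace.Opens.mem_iSup.1 hx
    refine hOM z x ?_
    rw [← cmp_map (q ≫ p) (mz z) (hmz z) m hm (n z hz) (hna z hz) (hnm z hz), Scheme.Hom.comp_apply]
    exact hzx
  have hO₂ : ∀ w, scmp (q ≫ p) m hm (τ w) ∈ O := by
    intro w
    obtain ⟨z, hz, hzw⟩ := Set.mem_iUnion₂.1 (hF (Set.mem_univ w))
    refine TopologicalSpace.Opens.mem_iSup.2 ⟨⟨z, hz⟩, ?_⟩
    show μ z hz (scmp (q ≫ p) m hm (τ w)) ∈ Oz z
    rw [← Scheme.Hom.comp_apply, cmp_map (q ≫ p) (mz z) (hmz z) m hm (n z hz) (hna z hz) (hnm z hz),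
      ← Scheme.Hom.comp_apply]
    exact hzw
  let ZT := pullback p m.left
  let qT : PT ⟶ ZT := pullback.map (q ≫ p) m.left p m.left q (𝟙 _) (𝟙 _) (by simp) (by simp)
  have hqTsq : IsPullback qT (pullback.fst (q ≫ p) m.left) (pullback.fst p m.left) q :=
    (IsPullback.of_bot (h₁₁ := pullback.fst (q ≫ p) m.left) (v₁₁ := qT) (v₁₂ := q) (h₂₁ := pullback.fst p m.left)
      (v₂₁ := pullback.snd p m.left) (v₂₂ := p) (h₃₁ := m.left)
      (by simpa [qT] using IsPullback.of_hasPullback (q ≫ p) m.left)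
      (by simp [qT]) (IsPullback.of_hasPullback p m.left)).flip
  haveI : Etale qT := MorphismProperty.of_isPullback hqTsq.flip ‹Etale q›
  haveI : IsSeparated qT := MorphismProperty.of_isPullback hqTsq.flip ‹IsSeparated q›
  let r : O.toScheme ⟶ ZT := O.ι ≫ qT
  haveI : Etale r := inferInstanceAs (Etale (O.ι ≫ qT))
  haveI : IsSeparated r := inferInstanceAs (IsSeparated (O.ι ≫ qT))
  let pZ : ZT ⟶ T.V.left := pullback.snd p m.left
  haveI : QuasiSeparatedSpace ZT := quasiSeparatedSpace_of_quasiSeparated pZ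
  haveI : QuasiCompact r := inferInstance
  -- points over the local algebra
  have hpt : ∀ {K : Type u} [Field K] (u : Spec (CommRingCat.of K) ⟶ O.toScheme)
      (a : Spec (CommRingCat.of K) ⟶ Spec (CommRingCat.of A)) (he : u ≫ r ≫ pZ = a ≫ T.a),
      ∃ w : Spec (CommRingCat.of K) ⟶ pullback p T₀.a, w ≫ τ ≫ scmp (q ≫ p) m hm = u ≫ O.ι ∧
        w ≫ pullback.fst p T₀.a = u ≫ r ≫ pullback.fst p m.left ∧ w ≫ pullback.snd p T₀.a = a := by
    intro K _ u a he
    have e1 : (u ≫ O.ι ≫ pullback.fst (q ≫ p) m.left) ≫ q ≫ p = a ≫ T₀.a := by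
      rw [← hm, ← Category.assoc a, ← he]
      simp [r, qT, pZ, pullback.condition]
    let x := pullback.lift _ a e1
    have hx : x ≫ scmp (q ≫ p) m hm = u ≫ O.ι := by
      apply pullback.hom_ext
      · simp [x, ProperPush24.cmp]
      · rw [Category.assoc, Category.assoc]
        simp only [ProperPush24.cmp, x, pullback.lift_snd, pullback.lift_snd_assoc]
        rw [← he]; simp [r, qT, pZ]
    have hxM : Set.range x ⊆ M := by
      rintro _ ⟨s, rfl⟩
      refine hO₁ _ ?_
      rw [← Scheme.Hom.comp_apply, hx, Scheme.Hom.comp_apply]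
      exact (u s).2
    let w := IsOpenImmersion.lift τ x hxM
    have hw : w ≫ τ = x := IsOpenImmersion.lift_fac _ _ _
    have hwx : w = x ≫ π := by rw [← hw, Category.assoc, hτπ, Category.comp_id]
    refine ⟨w, by rw [reassoc_of% hw, hx], ?_, ?_⟩
    · rw [hwx]; simp [π, x, r, qT]
    · rw [hwx]; simp [π, x]
  -- shrink to make it injective
  let D₂ := pullback r r
  let p₂ : D₂ ⟶ T.V.left := pullback.fst r r ≫ r ≫ pZ
  haveI : QuasiCompact pZ := inferInstance
  haveI : QuasiCompact p₂ := inferInstance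
  obtain ⟨O₁, hO₁pt, hd₁⟩ := exists_open_disjoint T p₂
    (C := (Set.range (pullback.diagonal r))ᶜ) (pullback.diagonal r).isOpenEmbedding.isOpen_range.isClosed_compl (by
    intro w hw
    refine hw ?_
    let P := pullback p₂ T.a
    let y := P.fromSpecResidueField w
    let a := y ≫ pullback.snd p₂ T.a
    let u₁ := y ≫ pullback.fst p₂ T.a ≫ pullback.fst r r
    let u₂ := y ≫ pullback.fst p₂ T.a ≫ pullback.snd r r
    have h₁ : u₁ ≫ r ≫ pZ = a ≫ T.a := by
      simp only [u₁, a, Category.assoc]; exact congrArg (y ≫ ·) pullback.condition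
    have h₂' : u₁ ≫ r = u₂ ≫ r := by simp only [u₁, u₂, Category.assoc, pullback.condition]
    have h₂ : u₂ ≫ r ≫ pZ = a ≫ T.a := by rw [← Category.assoc, ← h₂', Category.assoc, h₁]
    obtain ⟨w₁, hw₁, hw₁a, hw₁b⟩ := hpt u₁ a h₁
    obtain ⟨w₂, hw₂, hw₂a, hw₂b⟩ := hpt u₂ a h₂
    have : w₁ = w₂ := by
      apply pullback.hom_ext
      · rw [hw₁a, hw₂a, reassoc_of% h₂']
      · rw [hw₁b, hw₂b]
    have hu : u₁ = u₂ := (cancel_mono O.ι).1 (by rw [← hw₁, ← hw₂, this])
    refine ⟨u₁ (default : Spec (CommRingCat.of (P.residueField w))), ?_⟩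
    have he : u₁ ≫ pullback.diagonal r = y ≫ pullback.fst p₂ T.a := by
      apply pullback.hom_ext
      · simp [u₁]
      · simp only [Category.assoc, pullback.diagonal_snd, Category.comp_id]; exact hu
    rw [← Scheme.Hom.comp_apply, he, Scheme.Hom.comp_apply]
    erw [Scheme.fromSpecResidueField_apply])
  -- shrink to make it surjective
  obtain ⟨O₂, hO₂pt, hd₂⟩ := exists_open_disjoint T pZ (C := (Set.range r)ᶜ) r.isOpenMap.isOpen_range.isClosed_compl (by
    intro w hw
    refine hw ?_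
    have e : pullback.fst pZ T.a ≫ pullback.fst p m.left ≫ p = pullback.snd pZ T.a ≫ T₀.a := by
      rw [← hm, ← pullback.condition_assoc, pullback.condition (f := p)]
    let z := pullback.lift (pullback.fst pZ T.a ≫ pullback.fst p m.left) (pullback.snd pZ T.a)
      (by rw [Category.assoc, e])
    refine ⟨⟨scmp (q ≫ p) m hm (τ (z w)), hO₂ _⟩, ?_⟩
    show (O.ι ≫ qT) (⟨_, hO₂ _⟩ : O.toScheme) = _
    rw [Scheme.Hom.comp_apply]
    show qT (scmp (q ≫ p) m hm (τ (z w))) = _
    rw [← Scheme.Hom.comp_apply z, ← Scheme.Hom.comp_apply _ (scmp (q ≫ p) m hm), ← Scheme.Hom.comp_apply _ qT]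
    refine congrArg (fun k : pullback pZ T.a ⟶ ZT => k w) ?_
    apply pullback.hom_ext
    · simp [z, τ, ProperPush24.cmp, qT, ht]
    · simp [z, τ, ProperPush24.cmp, qT, pullback.condition, pZ])
  -- an affine stage inside both
  obtain ⟨T', n', hn'⟩ := exists_affine_stage (α := α) (EtSite.sub T.V (O₁ ⊓ O₂))
    (IsOpenImmersion.lift (O₁ ⊓ O₂).ι T.a (ProperPush24.range_subset_of_closedPoint T.a _ ⟨hO₁pt, hO₂pt⟩)) (by
      show IsOpenImmersion.lift _ _ _ ≫ (O₁ ⊓ O₂).ι ≫ T.V.hom = α
      rw [IsOpenImmersion.lift_fac_assoc, T.w])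
  let k : T'.V ⟶ T.V := n' ≫ EtSite.subHom T.V (O₁ ⊓ O₂)
  have hk : ∀ v, k.left v ∈ O₁ ⊓ O₂ := fun v => by
    show (n'.left ≫ (O₁ ⊓ O₂).ι) v ∈ O₁ ⊓ O₂
    rw [Scheme.Hom.comp_apply]; exact (n'.left v).2
  have hka : T'.a ≫ k.left = T.a := by
    show T'.a ≫ n'.left ≫ (O₁ ⊓ O₂).ι = _
    rw [← Category.assoc, hn', IsOpenImmersion.lift_fac]
  let Z' := pullback p (k ≫ m).left
  let toT : Z' ⟶ ZT := pullback.lift (pullback.fst p _) (pullback.snd p _ ≫ k.left)
    (pullback.condition.trans (Category.assoc _ _ _).symm)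
  have hTp : toT ≫ pZ = pullback.snd p _ ≫ k.left := pullback.lift_snd _ _ _
  let r' := pullback.snd r toT
  haveI : Etale r' := MorphismProperty.pullback_snd _ _ ‹Etale r›
  have hin : ∀ x : Z', pZ (toT x) ∈ O₁ ⊓ O₂ := fun x => by
    rw [← Scheme.Hom.comp_apply, hTp, Scheme.Hom.comp_apply]; exact hk _
  haveI : Surjective r' := ⟨fun x => by
    have hx : toT x ∈ Set.range r := by_contra fun hn => hd₂ _ hn (hin x).2
    obtain ⟨o, ho⟩ := hx
    obtain ⟨w, -, hw⟩ := Scheme.Pullback.exists_preimage_pullback o x ho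
    exact ⟨w, hw⟩⟩
  haveI : IsOpenImmersion (pullback.diagonal r') := inferInstance
  haveI : Surjective (pullback.diagonal r') := ⟨fun y => by
    let P := pullback r' r'
    let ξ := P.fromSpecResidueField y
    let a := ξ ≫ pullback.fst r' r'
    let b := ξ ≫ pullback.snd r' r'
    have hab : a ≫ r' = b ≫ r' := by simp only [a, b, Category.assoc, pullback.condition]
    have hab₂ : (a ≫ pullback.fst r toT) ≫ r = (b ≫ pullback.fst r toT) ≫ r := by
      simp only [Category.assoc, pullback.condition]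
      exact (Category.assoc _ _ _).symm.trans ((congrArg (· ≫ toT) hab).trans (Category.assoc _ _ _))
    let l := pullback.lift _ _ hab₂
    have hl : Set.range l ⊆ Set.range (pullback.diagonal r) := by
      rintro _ ⟨s, rfl⟩
      by_contra hn
      refine hd₁ _ hn ?_
      have : l ≫ p₂ = (a ≫ r') ≫ toT ≫ pZ := by
        simp only [l, p₂, r', Category.assoc]
        rw [pullback.lift_fst_assoc, Category.assoc, pullback.condition_assoc]
      rw [← Scheme.Hom.comp_apply, this, Scheme.Hom.comp_apply, Scheme.Hom.comp_apply toT]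
      exact (hin _).1
    let d := IsOpenImmersion.lift (pullback.diagonal r) l hl
    have hd : d ≫ pullback.diagonal r = l := IsOpenImmersion.lift_fac _ _ _
    have e1 := congrArg (· ≫ pullback.fst r r) hd
    have e2 := congrArg (· ≫ pullback.snd r r) hd
    simp only [l, Category.assoc, pullback.diagonal_fst, pullback.diagonal_snd, Category.comp_id,
      pullback.lift_fst, pullback.lift_snd] at e1 e2
    have hab' : a = b := pullback.hom_ext (e1.symm.trans e2) hab
    refine ⟨a (default : Spec (CommRingCat.of (P.residueField y))), ?_⟩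
    have he : a ≫ pullback.diagonal r' = ξ := by
      apply pullback.hom_ext
      · simp [a]
      · simp only [Category.assoc, pullback.diagonal_snd, Category.comp_id]; exact hab'
    rw [← Scheme.Hom.comp_apply, he]
    erw [Scheme.fromSpecResidueField_apply]⟩
  haveI : IsIso (pullback.diagonal r') := (isIso_iff_isOpenImmersion_and_surjective _).mpr ⟨inferInstance, inferInstance⟩
  haveI : Mono r' := (pullback.isIso_diagonal_iff r').1 inferInstance
  haveI : IsOpenImmersion r' := IsOpenImmersion.of_flat_of_mono r'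
  haveI : IsIso r' := (isIso_iff_isOpenImmersion_and_surjective _).mpr ⟨inferInstance, inferInstance⟩
  have hkm : T'.a ≫ (k ≫ m).left = T₀.a := by
    show T'.a ≫ k.left ≫ m.left = _
    rw [← Category.assoc, hka, hm]
  refine ⟨T', k ≫ m, hkm, inv r' ≫ pullback.fst r toT ≫ O.ι ≫ pullback.fst (q ≫ p) m.left, ?_, ?_⟩
  · simp only [Category.assoc, IsIso.inv_comp_eq]
    rw [← hqTsq.w]
    refine Eq.trans ?_ (congrArg (r' ≫ ·) (pullback.lift_fst _ _ _ : toT ≫ pullback.fst p m.left = _))
    rw [← Category.assoc r', ← pullback.condition]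
    simp only [r, Category.assoc]
  · let c := IsOpenImmersion.lift O.ι (τ ≫ scmp (q ≫ p) m hm) (by
      rw [Scheme.Opens.range_ι]
      rintro _ ⟨w, rfl⟩
      rw [Scheme.Hom.comp_apply]; exact hO₂ w)
    have hc : c ≫ O.ι = τ ≫ scmp (q ≫ p) m hm := IsOpenImmersion.lift_fac _ _ _
    have hcr : c ≫ r = scmp p (k ≫ m) hkm ≫ toT := by
      rw [← Category.assoc, hc]
      apply pullback.hom_ext
      · simp [τ, ProperPush24.cmp, qT, toT, ht]
      · simp [τ, ProperPush24.cmp, qT, toT, hka]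
    have hl : pullback.lift c (scmp p (k ≫ m) hkm) hcr ≫ r' = scmp p (k ≫ m) hkm := pullback.lift_snd _ _ _
    rw [← Category.assoc, ← (IsIso.eq_comp_inv r').2 hl, pullback.lift_fst_assoc, reassoc_of% hc]
    simp [τ, ProperPush24.cmp]

end Groth.Agent.EtEff25
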