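import Groth.Agent.Lib.EtEff25.Field
import Groth.Agent.Lib.EtEff25.Spread
import Groth.Agent.Lib.EtEff25.Hens
import Groth.Agent.Lib.ProperPush24.Model

/-!
# Étale local sections from closed coverings
-/

set_option autoImplicit false
set_option linter.style.haveILetI false
set_option backward.isDefEq.respectTransparency false
set_option backward.isDefEq.respectTransparency.types false
universe u

open CategoryTheory CategoryTheory.Limits AlgebraicGeometry

namespace Groth.Agent.EtEff25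

open Groth.Agent.SchDesc12
open Groth.Agent.ProperPush24 (Stage HasLifts exists_open_disjoint exists_affine_stage)

theorem univSubmersive_of_universallyOpen {X Y : Scheme.{u}} (f : X ⟶ Y) [UniversallyOpen f] [Surjective f] :
    SGA1.UnivSubmersive f := by
  intro X' Y' i₁ i₂ f' h
  haveI : UniversallyOpen f' := MorphismProperty.of_isPullback h.flip ‹UniversallyOpen f›
  haveI : Surjective f' := MorphismProperty.of_isPullback h.flip ‹Surjective f›
  exact f'.isOpenMap.isQuotientMap f'.continuous f'.surjective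

theorem univSubmersive_of_universallyClosed {X Y : Scheme.{u}} (f : X ⟶ Y) [UniversallyClosed f]
    [Surjective f] : SGA1.UnivSubmersive f := by
  intro X' Y' i₁ i₂ f' h
  haveI : UniversallyClosed f' := MorphismProperty.of_isPullback h.flip ‹UniversallyClosed f›
  haveI : Surjective f' := MorphismProperty.of_isPullback h.flip ‹Surjective f›
  exact f'.isClosedMap.isQuotientMap f'.continuous f'.surjective

/-- Over henselian local bases the closed fibre has the clopens of every finite cover. -/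
def HensLift {Z T : Scheme.{u}} (π : Z ⟶ T) : Prop :=
  ∀ (A : Type u) [CommRing A] [HenselianLocalRing A] (α : Spec (CommRingCat.of A) ⟶ T),
    FiniteClopenLift (pullback.fst (pullback.snd π α)
      (Spec.map (CommRingCat.ofHom (IsLocalRing.residue A))))

theorem range_special {Z : Scheme.{u}} {A : Type u} [CommRing A] [IsLocalRing A]
    (f : Z ⟶ Spec (CommRingCat.of A)) :
    Set.range (pullback.fst f (Spec.map (CommRingCat.ofHom (IsLocalRing.residue A)))) =
      f ⁻¹' PrimeSpectrum.zeroLocus (IsLocalRing.maximalIdeal A : Set A) := by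
  rw [Scheme.Pullback.range_fst]
  congr 1
  exact (range_comap_of_surjective _ _ IsLocalRing.residue_surjective).trans
    (by rw [IsLocalRing.ker_residue])

theorem hensLift_of_proper {Z T : Scheme.{u}} (π : Z ⟶ T) [IsProper π] : HensLift π := fun A _ _ α =>
  finiteClopenLift_of_proper (I := IsLocalRing.maximalIdeal A) inferInstance (pullback.snd π α)
    (range_special _)

theorem hensLift_of_integral {Z T : Scheme.{u}} (π : Z ⟶ T) [IsIntegralHom π] : HensLift π := fun A _ _ α =>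
  finiteClopenLift_of_integral (I := IsLocalRing.maximalIdeal A) inferInstance (pullback.snd π α)
    (range_special _)

variable {S S' : Scheme.{u}} {g : S' ⟶ S} (D : Desc.SchDD g) [IsSeparated D.obj.hom] [Etale D.obj.hom]

theorem univSubmersive_comp {X Y Z : Scheme.{u}} {a : X ⟶ Y} {b : Y ⟶ Z} (ha : SGA1.UnivSubmersive a)
    (hb : SGA1.UnivSubmersive b) : SGA1.UnivSubmersive (a ≫ b) := by
  haveI : (topologically fun f => Topology.IsQuotientMap f).IsStableUnderComposition :=
    ⟨fun f h hf hh => by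
      show Topology.IsQuotientMap _
      rw [Scheme.Hom.comp_base, TopCat.coe_comp]
      exact Topology.IsQuotientMap.comp hh hf⟩
  haveI : (SGA1.UnivSubmersive : MorphismProperty Scheme.{u}).IsStableUnderComposition :=
    inferInstanceAs (MorphismProperty.universally _).IsStableUnderComposition
  exact MorphismProperty.comp_mem _ _ _ ha hb

set_option maxHeartbeats 2000000 in
/-- A point over the image of an étale scheme whose closed covering carries a representation has a section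
through it. -/
theorem hasSectionAt_of_rep (hg : SGA1.UnivSubmersive g) {T Z : Scheme.{u}} (jT : T ⟶ S) [Etale jT]
    (π : Z ⟶ T) [UniversallyClosed π] [QuasiCompact π] [QuasiSeparated π] [Surjective π] (hπ : HensLift π)
    (Rz : Rep (famU D) (π ≫ jT)) [Etale Rz.π] [IsSeparated Rz.π]
    (x : D.obj.left) (hx : g (D.obj.hom x) ∈ Set.range jT) : HasSectionAt D x := by
  haveI : Etale ((famU D).obj PUnit.unit).hom := ‹_›
  haveI : IsSeparated ((famU D).obj PUnit.unit).hom := ‹_›
  obtain ⟨t₀, ht₀⟩ := hx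
  let Ω := AlgebraicClosure (T.residueField t₀)
  let ξ : Spec (CommRingCat.of Ω) ⟶ T :=
    Spec.map (CommRingCat.ofHom (algebraMap (T.residueField t₀) Ω)) ≫ T.fromSpecResidueField t₀
  have hξ : ∀ p, ξ p = t₀ := fun p => by
    rw [Scheme.Hom.comp_apply]; exact Scheme.fromSpecResidueField_apply _ _
  obtain ⟨A, _, _, _, α, _, hL, ⟨T₀⟩, ζ, hζ⟩ := ProperPush24.exists_model ξ
  let k := IsLocalRing.ResidueField A
  let i₀ : Spec (CommRingCat.of k) ⟶ Spec (CommRingCat.of A) := Spec.map (CommRingCat.ofHom (IsLocalRing.residue A))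
  haveI : IsClosedImmersion i₀ := IsClosedImmersion.spec_of_surjective _ IsLocalRing.residue_surjective
  have hi₀ : (i₀ ≫ α) (default : Spec (CommRingCat.of k)) = t₀ := by
    rw [← hξ default, ← hζ, Scheme.Hom.comp_apply ζ]
    exact congrArg (i₀ ≫ α) (Subsingleton.elim _ _)
  -- a field point over both
  let sk : Spec (CommRingCat.of k) ⟶ S := i₀ ≫ α ≫ jT
  have hsk : (D.obj.hom ≫ g) x = sk (default : Spec (CommRingCat.of k)) := by
    show _ = ((i₀ ≫ α) ≫ jT) _
    rw [Scheme.Hom.comp_apply (i₀ ≫ α), hi₀, ht₀, Scheme.Hom.comp_apply]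
  obtain ⟨w₀, hw₀, -⟩ := Scheme.Pullback.exists_preimage_pullback x _ hsk
  let PK := pullback (D.obj.hom ≫ g) sk
  let y := PK.fromSpecResidueField w₀
  let xK := y ≫ pullback.fst (D.obj.hom ≫ g) sk
  let hK := y ≫ pullback.snd (D.obj.hom ≫ g) sk
  have hxK : hK ≫ sk = (xK ≫ D.obj.hom) ≫ g := by
    simp only [hK, xK, Category.assoc]; exact congrArg (y ≫ ·) pullback.condition.symm
  have hxKx : xK (default : Spec (CommRingCat.of (PK.residueField w₀))) = x := by
    rw [Scheme.Hom.comp_apply]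
    erw [Scheme.fromSpecResidueField_apply]
    exact hw₀
  obtain ⟨ν, hν⟩ := exists_field_refSec D sk hK xK hxK
  haveI : Surjective hK := ⟨fun p => ⟨default, Subsingleton.elim _ _⟩⟩
  obtain ⟨σk, hσk⟩ := exists_sec_of_refinement D (univSubmersive_of_universallyOpen hK) ν
  -- the section over the henselian ring
  let ZA := pullback π α
  let qA : ZA ⟶ Spec (CommRingCat.of A) := pullback.snd π α
  let pZ : ZA ⟶ Z := pullback.fst π α
  let Z0 := pullback qA i₀
  let i := pullback.fst qA i₀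
  have e0 : pullback.snd qA i₀ ≫ sk = (i ≫ pZ) ≫ π ≫ jT := by
    simp only [i, sk, qA, pZ, Category.assoc, ← pullback.condition_assoc]
  obtain ⟨b₀, hb₀, hb₀v⟩ := Rz.exists_lift (i ≫ pZ) (σk.pull (pullback.snd qA i₀) e0)
  let s : Z0 ⟶ pullback pZ Rz.π := pullback.lift i b₀ hb₀.symm
  haveI : CompactSpace ZA := QuasiCompact.compactSpace_of_compactSpace qA
  haveI : QuasiSeparatedSpace ZA := quasiSeparatedSpace_of_quasiSeparated qA
  obtain ⟨tA, htA, htAi⟩ := exists_section_extension (i := i) (hπ A α) (pullback.fst pZ Rz.π) s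
    (pullback.lift_fst _ _ _)
  -- the section over a stage
  let W := pullback π T₀.V.hom
  let pW : W ⟶ T₀.V.left := pullback.snd π T₀.V.hom
  let bW : W ⟶ Z := pullback.fst π T₀.V.hom
  let toA : pullback pW T₀.a ⟶ ZA := pullback.lift (pullback.fst pW T₀.a ≫ pullback.fst π T₀.V.hom)
    (pullback.snd pW T₀.a) (by
      rw [Category.assoc, pullback.condition, ← Category.assoc, pullback.condition, Category.assoc, T₀.w])
  let tW : pullback pW T₀.a ⟶ pullback bW Rz.π :=
    pullback.lift (pullback.fst pW T₀.a) (toA ≫ tA ≫ pullback.snd _ _) (by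
      simp only [Category.assoc, ← pullback.condition, reassoc_of% htA]
      simp [toA, bW, pZ])
  obtain ⟨T₁, m, hm, s₁, hs₁, hs₁t⟩ := exists_stage_section hL T₀ pW (pullback.fst bW Rz.π) tW
    (pullback.lift_fst _ _ _)
  let Z₁ := pullback pW m.left
  let π₁ : Z₁ ⟶ T₁.V.left := pullback.snd pW m.left
  let val₁ : Z₁ ⟶ Rz.U := s₁ ≫ pullback.snd bW Rz.π
  have hval₁ : val₁ ≫ Rz.π = pullback.fst pW m.left ≫ bW := by
    simp only [val₁, Category.assoc, ← pullback.condition, reassoc_of% hs₁]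
  let w₁ : T₁.V.left ⟶ S := T₁.V.hom ≫ jT
  have hw₁ : val₁ ≫ Rz.π ≫ π ≫ jT = π₁ ≫ w₁ := by
    rw [reassoc_of% hval₁]
    simp only [π₁, w₁, bW, pW]
    rw [← MorphismProperty.Over.w m, Category.assoc, ← pullback.condition_assoc,
      ← pullback.condition_assoc (f := π)]
  let τ₁ : Sec (famU D) (π₁ ≫ w₁) := Rz.univ.pull val₁ hw₁
  -- values over the local ring agree with the field values
  have hclosed : ∀ {K : Scheme.{u}} (z : K ⟶ Z₁)
      (c : K ⟶ Spec (CommRingCat.of k)), z ≫ π₁ = (c ≫ i₀) ≫ T₁.a →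
      ∀ (t' : K ⟶ S) (h : z ≫ π₁ ≫ w₁ = t') (h' : c ≫ sk = t'),
        τ₁.pull z h = σk.pull c h' := by
    intro K z c hz t' h h'
    have hz' : (z ≫ pullback.fst pW m.left) ≫ pW = (c ≫ i₀) ≫ T₀.a := by
      rw [Category.assoc, pullback.condition, ← Category.assoc, hz, Category.assoc _ T₁.a, hm]
    let zA : K ⟶ pullback pW T₀.a := pullback.lift _ _ hz'
    let z0 : K ⟶ Z0 := pullback.lift (zA ≫ toA) c (by
      simp [qA, toA, zA])
    have hzc : zA ≫ ProperPush24.cmp pW m hm = z := by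
      apply pullback.hom_ext
      · simp [zA, ProperPush24.cmp]
      · simp only [zA, ProperPush24.cmp, Category.assoc, pullback.lift_snd, pullback.lift_snd_assoc]
        rw [← Category.assoc]; exact hz.symm
    have hzv : z ≫ val₁ = z0 ≫ b₀ := by
      calc z ≫ val₁ = (zA ≫ toA) ≫ tA ≫ pullback.snd _ _ := by
            rw [← hzc]
            simp only [val₁, Category.assoc]
            rw [← Category.assoc (ProperPush24.cmp pW m hm), hs₁t]
            simp only [tW, pullback.lift_snd]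
        _ = z0 ≫ (i ≫ tA) ≫ pullback.snd _ _ := by
            simp only [z0, i, Category.assoc, pullback.lift_fst_assoc]
        _ = z0 ≫ b₀ := by rw [htAi]; simp only [s, pullback.lift_snd]
    refine Sec.ext_eval _ fun K' iu a xx ea => ?_
    obtain ⟨⟩ := iu
    simp only [τ₁, Sec.eval_pull]
    have hab : (a ≫ z) ≫ val₁ = (a ≫ z0) ≫ b₀ := by simp only [Category.assoc, hzv]
    have hc : (a ≫ z0) ≫ pullback.snd qA i₀ = a ≫ c := by simp [z0]
    have e₂ : ((a ≫ z0) ≫ b₀) ≫ Rz.π ≫ π ≫ jT = xx ≫ g := by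
      rw [← hab, Category.assoc (a ≫ z), hw₁, Category.assoc, h]; exact ea
    have e₃ : (a ≫ z0) ≫ (i ≫ pZ) ≫ π ≫ jT = xx ≫ g := by
      rw [← e0, ← Category.assoc, hc, Category.assoc, h']; exact ea
    refine (Sec.eval_congr Rz.univ hab rfl _ e₂).trans ((hb₀v PUnit.unit _ xx e₃ e₂).trans ?_)
    rw [Sec.eval_pull]
    exact Sec.eval_congr σk hc rfl _ _
  -- compatibility near the closed point
  let Z₂ := pullback π₁ π₁
  let p₂ : Z₂ ⟶ T₁.V.left := pullback.fst π₁ π₁ ≫ π₁
  let ρ₀ : Sec (famU D) (p₂ ≫ w₁) := τ₁.pull (pullback.fst π₁ π₁) (Category.assoc _ _ _).symm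
  let ρ₁ : Sec (famU D) (p₂ ≫ w₁) := τ₁.pull (pullback.snd π₁ π₁)
    (by simp only [p₂, Category.assoc, pullback.condition_assoc])
  obtain ⟨E₂, -, hE₂, hE₂u⟩ := exists_locus hg ρ₀ ρ₁
  haveI : QuasiCompact p₂ := inferInstance
  haveI : UniversallyClosed p₂ := inferInstance
  obtain ⟨O, hOpt, hO⟩ := exists_open_disjoint T₁ p₂ (C := (E₂ : Set Z₂)ᶜ) E₂.isOpen.isClosed_compl (by
    intro w hw
    let P := pullback p₂ T₁.a
    let C : Set P := pullback.fst p₂ T₁.a ⁻¹' (E₂ : Set Z₂)ᶜ
    have hC : IsClosed C := E₂.isOpen.isClosed_compl.preimage (Scheme.Hom.continuous _)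
    obtain ⟨c, hc, hc'⟩ : ∃ c ∈ C, pullback.snd p₂ T₁.a c = IsLocalRing.closedPoint A :=
      (IsLocalRing.specializes_closedPoint _).mem_closed ((pullback.snd p₂ T₁.a).isClosedMap _ hC) ⟨w, hw, rfl⟩
    obtain ⟨d, hd, -⟩ := Scheme.Pullback.exists_preimage_pullback (f := pullback.snd p₂ T₁.a) (g := i₀) c
      (default : Spec (CommRingCat.of k)) (by
        rw [hc']; exact (IsLocalRing.comap_closedPoint (IsLocalRing.residue A)).symm.trans
          (congrArg i₀ (Subsingleton.elim _ _)))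
    let P₀ := pullback (pullback.snd p₂ T₁.a) i₀
    let yd := P₀.fromSpecResidueField d
    let cd := yd ≫ pullback.snd _ i₀
    let zd := yd ≫ pullback.fst (pullback.snd p₂ T₁.a) i₀ ≫ pullback.fst p₂ T₁.a
    let z₀ := zd ≫ pullback.fst π₁ π₁
    let z₁ := zd ≫ pullback.snd π₁ π₁
    have h0 : z₀ ≫ π₁ = (cd ≫ i₀) ≫ T₁.a := by
      simp only [z₀, zd, cd, Category.assoc]
      rw [show pullback.fst π₁ π₁ ≫ π₁ = p₂ from rfl, pullback.condition (f := p₂), pullback.condition_assoc]
    have h1 : z₁ ≫ π₁ = (cd ≫ i₀) ≫ T₁.a := by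
      rw [← h0]; simp only [z₁, z₀, Category.assoc, pullback.condition]
    have e₀ : z₀ ≫ π₁ ≫ w₁ = zd ≫ p₂ ≫ w₁ := by simp only [z₀, p₂, Category.assoc]
    have e₁ : z₁ ≫ π₁ ≫ w₁ = zd ≫ p₂ ≫ w₁ := by
      simp only [z₁, p₂, Category.assoc, pullback.condition_assoc]
    have e₂ : cd ≫ sk = zd ≫ p₂ ≫ w₁ := by
      rw [← e₀, reassoc_of% h0]
      simp only [sk, w₁, reassoc_of% T₁.w]
    have hagree : ρ₀.pull zd (t' := zd ≫ p₂ ≫ w₁) rfl = ρ₁.pull zd rfl :=
      (pull_pull _ _ _ _ _ z₀ rfl e₀).trans (((hclosed z₀ cd h0 _ e₀ e₂).trans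
        (hclosed z₁ cd h1 _ e₁ e₂).symm).trans (pull_pull _ _ _ _ _ z₁ rfl e₁).symm)
    have hzc : zd (default : Spec (CommRingCat.of (P₀.residueField d))) = pullback.fst p₂ T₁.a c := by
      simp only [zd, Scheme.Hom.comp_apply]
      erw [Scheme.fromSpecResidueField_apply]
      erw [hd]
    exact hc (hE₂u zd _ rfl hagree ⟨default, hzc⟩))
  -- the section over the open piece
  let ιO := O.ι
  let Z₃ := pullback π₁ ιO
  let f₃ : Z₃ ⟶ Z₁ := pullback.fst π₁ ιO
  let q₃ : Z₃ ⟶ O.toScheme := pullback.snd π₁ ιO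
  let u₃ : Z₃ ⟶ S := f₃ ≫ π₁ ≫ w₁
  let π₄ : pullback u₃ g ⟶ O.toScheme := pullback.fst u₃ g ≫ q₃
  have hq₃ : f₃ ≫ π₁ = q₃ ≫ ιO := pullback.condition
  have e₄ : (pullback.fst u₃ g ≫ f₃) ≫ π₁ ≫ w₁ = pullback.snd u₃ g ≫ g := by
    rw [Category.assoc]; exact pullback.condition
  have hcomm : π₄ ≫ ιO ≫ w₁ = pullback.snd u₃ g ≫ g := by
    rw [← e₄]; simp only [π₄, Category.assoc, reassoc_of% hq₃]
  let ν₄ : RefSec D (ιO ≫ w₁) π₄ (pullback.snd u₃ g) :=
    { val := (τ₁.eval (i := PUnit.unit) (pullback.fst u₃ g ≫ f₃) (pullback.snd u₃ g) e₄).1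
      over_ := (τ₁.eval (i := PUnit.unit) (pullback.fst u₃ g ≫ f₃) (pullback.snd u₃ g) e₄).2
      comm := hcomm
      compat := fun T' z₀ z₁ hz h v hv => by
        let a₀ := (z₀ ≫ pullback.fst u₃ g) ≫ f₃
        let a₁ := (z₁ ≫ pullback.fst u₃ g) ≫ f₃
        have hq₀ : a₀ ≫ π₁ = (z₀ ≫ π₄) ≫ ιO := by simp only [a₀, π₄, Category.assoc, hq₃]
        have hq₁ : a₁ ≫ π₁ = (z₁ ≫ π₄) ≫ ιO := by simp only [a₁, π₄, Category.assoc, hq₃]
        have hzz : a₀ ≫ π₁ = a₁ ≫ π₁ := by rw [hq₀, hq₁, hz]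
        let zz := pullback.lift a₀ a₁ hzz
        have hp : zz ≫ p₂ = (z₀ ≫ π₄) ≫ ιO := by
          simp only [zz, p₂, pullback.lift_fst_assoc]; exact hq₀
        have hr : Set.range zz ⊆ Set.range E₂.ι := by
          rw [Scheme.Opens.range_ι]
          rintro _ ⟨p, rfl⟩
          by_contra hn
          refine hO (zz p) hn ?_
          rw [← Scheme.Hom.comp_apply, hp, Scheme.Hom.comp_apply]
          exact ((z₀ ≫ π₄) p).2
        have hzE := IsOpenImmersion.lift_fac E₂.ι zz hr
        have g₀ : a₀ ≫ π₁ ≫ w₁ = zz ≫ p₂ ≫ w₁ := by simp only [zz, p₂, pullback.lift_fst_assoc, Category.assoc]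
        have g₁ : a₁ ≫ π₁ ≫ w₁ = zz ≫ p₂ ≫ w₁ := by rw [← g₀, reassoc_of% hzz]
        have key : τ₁.pull a₀ g₀ = τ₁.pull a₁ g₁ := by
          have h2 := congrArg (fun ρ : Sec (famU D) (E₂.ι ≫ p₂ ≫ w₁) =>
            ρ.pull (IsOpenImmersion.lift E₂.ι zz hr) (t' := zz ≫ p₂ ≫ w₁)
              (by rw [← Category.assoc, hzE])) hE₂
          refine Eq.trans ?_ (h2.trans ?_)
          · refine Eq.trans ?_ (pull_pull _ _ _ _ _ zz hzE rfl).symm
            exact (pull_pull _ _ _ _ _ a₀ (pullback.lift_fst _ _ _) g₀).symm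
          · refine (pull_pull _ _ _ _ _ zz hzE rfl).trans ?_
            exact pull_pull _ _ _ _ _ a₁ (pullback.lift_snd _ _ _) g₁
        have f₀ : a₀ ≫ π₁ ≫ w₁ = (z₀ ≫ pullback.snd u₃ g) ≫ g := by
          simp only [a₀, Category.assoc]
          exact congrArg (z₀ ≫ ·) pullback.condition
        have f₀₁ : a₀ ≫ π₁ ≫ w₁ = (z₁ ≫ pullback.snd u₃ g) ≫ g := f₀.trans h
        have f₁ : a₁ ≫ π₁ ≫ w₁ = (z₁ ≫ pullback.snd u₃ g) ≫ g := by rw [← f₀₁, reassoc_of% hzz]
        have k0 := congrArg (fun ρ : Sec (famU D) (zz ≫ p₂ ≫ w₁) => (ρ.eval (i := PUnit.unit) (𝟙 T')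
          (z₁ ≫ pullback.snd u₃ g) (by rw [Category.id_comp, ← g₀, f₀₁])).1) key
        simp only [Sec.eval_pull] at k0
        have kk : (τ₁.eval (i := PUnit.unit) a₀ (z₁ ≫ pullback.snd u₃ g) f₀₁).1 =
            (τ₁.eval (i := PUnit.unit) a₁ (z₁ ≫ pullback.snd u₃ g) f₁).1 :=
          (Sec.eval_congr τ₁ (Category.id_comp a₀).symm rfl _ _).trans
            (k0.trans (Sec.eval_congr τ₁ (Category.id_comp a₁) rfl _ _))
        refine (φ_congr D rfl rfl h (f₀.symm.trans f₀₁) v
          (τ₁.eval (i := PUnit.unit) a₀ (z₀ ≫ pullback.snd u₃ g) f₀) ?_).trans ?_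
        · rw [hv]
          exact (τ₁.eval_natural z₀ _ _ e₄ _ _ (Category.assoc _ _ _).symm rfl f₀).symm
        · refine (congrArg Subtype.val (τ₁.eval_compat (i := PUnit.unit) (j := PUnit.unit) a₀ _ _ f₀ f₀₁)).trans
            (kk.trans ?_)
          exact τ₁.eval_natural z₁ _ _ e₄ _ _ (Category.assoc _ _ _).symm rfl f₁ }
  haveI : Surjective π₁ := inferInstance
  haveI : UniversallyClosed π₁ := inferInstance
  haveI : Surjective q₃ := inferInstance
  haveI : UniversallyClosed q₃ := inferInstance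
  obtain ⟨σ, hσ⟩ := exists_sec_of_refinement D (univSubmersive_comp
    (MorphismProperty.pullback_fst _ _ hg) (univSubmersive_of_universallyClosed q₃)) ν₄
  haveI : Etale T₁.V.hom := T₁.V.prop
  refine ⟨O.toScheme, ιO ≫ w₁, inferInstance, σ, ?_⟩
  -- the value at the given point
  let aK : Spec (CommRingCat.of (PK.residueField w₀)) ⟶ T₁.V.left := (hK ≫ i₀) ≫ T₁.a
  have haK : ∀ p, aK p = T₁.pt := fun p => by
    simp only [aK, Scheme.Hom.comp_apply]
    exact congrArg T₁.a ((congrArg i₀ (Subsingleton.elim _ _)).trans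
      (IsLocalRing.comap_closedPoint (IsLocalRing.residue A)))
  let aO := IsOpenImmersion.lift ιO aK (by
    rw [Scheme.Opens.range_ι]; rintro _ ⟨p, rfl⟩; rw [haK]; exact hOpt)
  have haO : aO ≫ ιO = aK := IsOpenImmersion.lift_fac _ _ _
  let R := pullback q₃ aO
  haveI : Surjective (pullback.snd q₃ aO) := inferInstance
  obtain ⟨rp, -⟩ := (pullback.snd q₃ aO).surjective default
  let yr := R.fromSpecResidueField rp
  let zr := yr ≫ pullback.fst q₃ aO
  let cr := yr ≫ pullback.snd q₃ aO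
  have hzr : zr ≫ q₃ = cr ≫ aO := by
    simp only [zr, cr, Category.assoc, pullback.condition]
  have ha : aO ≫ ιO ≫ w₁ = (xK ≫ D.obj.hom) ≫ g := by
    rw [reassoc_of% haO, ← hxK]
    simp only [aK, w₁, sk, Category.assoc, reassoc_of% T₁.w]
  have hev : (σ.eval (i := PUnit.unit) aO (xK ≫ D.obj.hom) ha).1 = xK := by
    haveI : Surjective cr := ⟨fun p => ⟨default, Subsingleton.elim _ _⟩⟩
    refine UnivSubm25.hom_ext_of_surjective D.obj.hom _ _ (σ.eval (i := PUnit.unit) aO _ ha).2 cr ?_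
    have ea : (cr ≫ aO) ≫ ιO ≫ w₁ = (cr ≫ xK ≫ D.obj.hom) ≫ g := by
      rw [Category.assoc, ha]; simp only [Category.assoc]
    have hz₁ : (zr ≫ f₃) ≫ π₁ = ((cr ≫ hK) ≫ i₀) ≫ T₁.a := by
      rw [Category.assoc, hq₃, reassoc_of% hzr, haO]
      simp only [aK, Category.assoc]
    have hu : zr ≫ u₃ = (cr ≫ xK ≫ D.obj.hom) ≫ g := by
      exact (congrArg (zr ≫ ·) ((reassoc_of% hq₃) w₁)).trans
        ((Category.assoc _ _ _).symm.trans ((congrArg (· ≫ ιO ≫ w₁) hzr).trans ea))
    let z4 : Spec (CommRingCat.of (R.residueField rp)) ⟶ pullback u₃ g := pullback.lift zr _ hu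
    have hz4 : z4 ≫ π₄ = cr ≫ aO := by simp only [z4, π₄, pullback.lift_fst_assoc, hzr]
    have hz4s : z4 ≫ pullback.snd u₃ g = cr ≫ xK ≫ D.obj.hom := pullback.lift_snd _ _ _
    have e₅ : (z4 ≫ π₄) ≫ ιO ≫ w₁ = (z4 ≫ pullback.snd u₃ g) ≫ g := by rw [hz4, hz4s, ea]
    rw [← σ.eval_natural cr aO (xK ≫ D.obj.hom) ha (cr ≫ aO) (cr ≫ xK ≫ D.obj.hom) rfl rfl ea]
    refine (Sec.eval_congr σ hz4.symm hz4s.symm ea e₅).trans ((hσ z4 e₅).trans ?_)
    have e₆ : (zr ≫ f₃) ≫ π₁ ≫ w₁ = (cr ≫ xK ≫ D.obj.hom) ≫ g := by rw [← hu]; simp only [u₃, Category.assoc]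
    refine (τ₁.eval_natural z4 _ _ e₄ (zr ≫ f₃) (cr ≫ xK ≫ D.obj.hom)
      (pullback.lift_fst_assoc _ _ _ _) hz4s e₆).symm.trans ?_
    have hcx : (cr ≫ hK) ≫ sk = (cr ≫ xK ≫ D.obj.hom) ≫ g := by
      rw [Category.assoc, hxK]; simp only [Category.assoc]
    have hv := congrArg (fun ρ : Sec (famU D) ((cr ≫ xK ≫ D.obj.hom) ≫ g) =>
        (ρ.eval (i := PUnit.unit) (𝟙 _) (cr ≫ xK ≫ D.obj.hom) (Category.id_comp _)).1)
      (hclosed (zr ≫ f₃) (cr ≫ hK) hz₁ _ e₆ hcx)
    simp only [Sec.eval_pull] at hv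
    refine (Sec.eval_congr τ₁ (Category.id_comp _).symm rfl e₆ _).trans (hv.trans ?_)
    exact (Sec.eval_congr σk (Category.id_comp _) rfl _ hcx).trans
      ((hσk cr hcx).trans (congrArg (cr ≫ ·) hν))
  refine ⟨pullback.lift aO (xK ≫ D.obj.hom) ha (default : Spec (CommRingCat.of (PK.residueField w₀))), ?_⟩
  rw [← Scheme.Hom.comp_apply]
  show (σ.eval (i := PUnit.unit) aO (xK ≫ D.obj.hom) ha).1 default = x
  rw [hev]
  exact hxKx

/-- A point over the image of an étale scheme carrying a closed covering has a section through it. -/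
theorem hasSectionAt_of_cover (hg : SGA1.UnivSubmersive g) {T Z : Scheme.{u}} (jT : T ⟶ S) [Etale jT]
    (π : Z ⟶ T) [UniversallyClosed π] [QuasiCompact π] [QuasiSeparated π] [Surjective π] (hπ : HensLift π)
    (e : Z ⟶ S') (he : π ≫ jT = e ≫ g) (x : D.obj.left) (hx : g (D.obj.hom x) ∈ Set.range jT) :
    HasSectionAt D x := by
  let R : Rep (famU D) (π ≫ jT) := Rep.ofMember (famU D) PUnit.unit e he.symm
  haveI : Etale R.π := inferInstanceAs (Etale (pullback.snd D.obj.hom e))
  haveI : IsSeparated R.π := inferInstanceAs (IsSeparated (pullback.snd D.obj.hom e))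
  exact hasSectionAt_of_rep D hg jT π hπ R x hx

/-- A universally closed surjection with the lifting property is of effective descent. -/
theorem exists_effective_of_hensLift (hc : UniversallyClosed g) (hs : Surjective g) [QuasiCompact g]
    [QuasiSeparated g] (hπ : HensLift g) :
    ∃ U : Over S, IsSeparated U.hom ∧ Etale U.hom ∧
      (QuasiCompact D.obj.hom → QuasiCompact U.hom) ∧
      Nonempty ((Desc.toDD g).obj U ≅ D) := by
  obtain ⟨U, h₁, h₂, h₃, h₄⟩ := exists_effective (univSubmersive_of_universallyClosed g) D fun x =>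
    hasSectionAt_of_cover D (univSubmersive_of_universallyClosed g) (𝟙 S) g hπ (𝟙 S') (by simp) x ⟨_, rfl⟩
  exact ⟨U, h₁, h₂, fun h => h₃ h inferInstance, h₄⟩

/-- The pulled back structure morphism of an effective datum. -/
theorem pullback_fst_mem {P : MorphismProperty Scheme.{u}} [P.RespectsIso] {D : Desc.SchDD g} (U : Over S)
    (e : (Desc.toDD g).obj U ≅ D) (h : P D.obj.hom) : P (pullback.fst g U.hom) := by
  let i : ((Desc.toDD g).obj U).obj ≅ D.obj :=
    { hom := e.hom.hom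
      inv := e.inv.hom
      hom_inv_id := congrArg (fun b : (Desc.toDD g).obj U ⟶ (Desc.toDD g).obj U => b.hom) e.hom_inv_id
      inv_hom_id := congrArg (fun b : D ⟶ D => b.hom) e.inv_hom_id }
  haveI : IsIso i.hom.left := inferInstanceAs (IsIso ((Over.forget _).mapIso i).hom)
  rw [← P.cancel_left_of_respectsIso i.hom.left, Over.w] at h
  exact h

/-- An étale separated scheme finite after a universally closed surjective base change is finite. -/
theorem isFinite_of_effective [UniversallyClosed g] [Surjective g] {D : Desc.SchDD g} [IsFinite D.obj.hom]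
    (U : Over S) [IsSeparated U.hom] [QuasiCompact U.hom] [Etale U.hom] (e : (Desc.toDD g).obj U ≅ D) :
    IsFinite U.hom := by
  haveI : IsFinite (pullback.fst g U.hom) := pullback_fst_mem (P := @IsFinite) U e ‹_›
  haveI : Surjective (pullback.snd g U.hom) := MorphismProperty.pullback_snd _ _ ‹_›
  haveI : UniversallyClosed (pullback.snd g U.hom ≫ U.hom) := by
    rw [← pullback.condition]; infer_instance
  haveI : UniversallyClosed U.hom := .of_comp_surjective (pullback.snd g U.hom) _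
  haveI : IsProper U.hom := {}
  haveI : LocallyQuasiFinite U.hom := SchDesc12.locallyQuasiFinite_of_etale _
  exact .of_isProper_of_locallyQuasiFinite _

end Groth.Agent.EtEff25
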