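import Groth.Agent.Lib.EtEff25.Cover
import Groth.Agent.Lib.RefineDesc12.Main
import Groth.Agent.Lib.Subtr12.LocClosed
import Groth.Agent.Lib.Subtr12.Noeth

/-!
# Étale descent along finitely presented universally subtrusive morphisms
-/

set_option autoImplicit false
set_option linter.style.haveILetI false
set_option backward.isDefEq.respectTransparency false
set_option backward.isDefEq.respectTransparency.types false
universe u

open CategoryTheory CategoryTheory.Limits AlgebraicGeometry

namespace Groth.Agent.EtEff25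

variable {S S' : Scheme.{u}} {g : S' ⟶ S}

theorem univSSubtrusive_of_universallyClosed (g : S' ⟶ S) [UniversallyClosed g] [Surjective g] :
    Subtr.UnivSSubtrusive g := by
  intro X' Y' i₁ i₂ f' h y y' hy
  haveI : UniversallyClosed f' := MorphismProperty.of_isPullback h.flip ‹UniversallyClosed g›
  haveI : Surjective f' := MorphismProperty.of_isPullback h.flip ‹Surjective g›
  obtain ⟨x', rfl⟩ := f'.surjective y'
  obtain ⟨x, hx, rfl⟩ := f'.isClosedMap.specializingMap hy
  exact ⟨x, x', hx, rfl, rfl⟩

/-- Descent along finitely presented universally subtrusive morphisms. -/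
theorem exists_effective_of_univSSubtrusive [LocallyOfFinitePresentation g] [QuasiCompact g]
    [QuasiSeparated g] (hg : Subtr.UnivSSubtrusive g) (D : Desc.SchDD g) [IsSeparated D.obj.hom]
    [Etale D.obj.hom] :
    ∃ U : Over S, IsSeparated U.hom ∧ Etale U.hom ∧
      (QuasiCompact D.obj.hom → QuasiCompact U.hom) ∧ Nonempty ((Desc.toDD g).obj U ≅ D) := by
  obtain ⟨U, h₁, h₂, h₃, h₄⟩ := exists_effective_of_refinement (D := D)
    (Subtr12.univSubmersive_of_univSSubtrusive g hg) fun s => by
    obtain ⟨V, hV, hsV, -⟩ := exists_isAffineOpen_mem_and_subset (x := s) (U := ⊤) trivial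
    haveI : IsAffine (V : Scheme.{u}) := hV
    haveI : QuasiSeparated (g ∣_ V) :=
      MorphismProperty.of_isPullback (isPullback_morphismRestrict g V).flip ‹QuasiSeparated g›
    obtain ⟨X', Y', h, p, q, he, hps, hpq, -, hpl, hq, hqs, -⟩ := RefineDesc12.exists_refinement (g ∣_ V)
      (Or.inl inferInstance) (Subtr12.isSSubtrusive_restrict hg V)
    refine ⟨V, X', Y', V.ι, p, q, h ≫ (g ⁻¹ᵁ V).ι, inferInstance, ⟨⟨s, hsV⟩, rfl⟩, ?_, hps, hpq, hq, hqs, ?_⟩
    · exact RefineDesc12.prop_of_isLocIso @Etale (fun _ _ => inferInstance) p hpl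
    · rw [← Category.assoc, ← he, Category.assoc, morphismRestrict_ι, Category.assoc]
  exact ⟨U, h₁, h₂, fun h => h₃ h inferInstance, h₄⟩

end Groth.Agent.EtEff25
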