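import Groth.Agent.Lib.EtEff25.Approx
import Groth.Agent.Lib.EtEff25.Subtr

/-!
# Étale local sections over affine subtrusive coverings
-/

set_option autoImplicit false
set_option linter.style.haveILetI false
set_option backward.isDefEq.respectTransparency false
set_option backward.isDefEq.respectTransparency.types false
universe u

open CategoryTheory CategoryTheory.Limits AlgebraicGeometry

namespace Groth.Agent.EtEff25

open Groth.Agent.SchDesc12

variable {S S' : Scheme.{u}} {g : S' ⟶ S}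

/-- A factor at the base of a universally subtrusive morphism is universally subtrusive. -/
theorem univSSubtrusive_of_comp {Z X T : Scheme.{u}} (u : Z ⟶ X) (q : X ⟶ T)
    (h : Subtr.UnivSSubtrusive (u ≫ q)) : Subtr.UnivSSubtrusive q := by
  intro X' Y' i₁ i₂ f' hsq y y' hy
  have hsq' : IsPullback (pullback.fst u i₁) (pullback.snd u i₁ ≫ f') (u ≫ q) i₂ :=
    ((IsPullback.of_hasPullback u i₁).flip.paste_horiz hsq).flip
  obtain ⟨z, z', hz, hzy, hzy'⟩ := h _ _ _ hsq'.flip hy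
  refine ⟨pullback.snd u i₁ z, pullback.snd u i₁ z', hz.map (Scheme.Hom.continuous _), ?_, ?_⟩
  · rw [← Scheme.Hom.comp_apply]; exact hzy
  · rw [← Scheme.Hom.comp_apply]; exact hzy'

set_option maxHeartbeats 1000000 in
/-- Points over an affine étale scheme with an affine subtrusive covering lifting to the source have sections. -/
theorem hasSectionAt_of_affine_cover (D : Desc.SchDD g) [IsSeparated D.obj.hom] [Etale D.obj.hom]
    [QuasiCompact D.obj.hom] {T Z : Scheme.{u}} [IsAffine T] [IsAffine Z] (jT : T ⟶ S) [Etale jT]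
    (π : Z ⟶ T) (hπ : Subtr.UnivSSubtrusive π) (e : Z ⟶ S') (he : π ≫ jT = e ≫ g)
    (x : D.obj.left) (hx : g (D.obj.hom x) ∈ Set.range jT) : HasSectionAt D x := by
  obtain ⟨X, u, gX, E, qE, hu, hl, hq, hs, hEs, hEe, -, hsq, hcompat⟩ := exists_model_datum D π jT e he
  haveI := hl; haveI := hq; haveI := hs; haveI := hEs; haveI := hEe
  obtain ⟨U, -, hU, -, ⟨iE⟩⟩ := exists_effective_of_univSSubtrusive
    (univSSubtrusive_of_comp u gX (by rw [hu]; exact hπ)) E
  haveI := hU
  let m : pullback gX U.hom ⟶ E.obj.left := iE.hom.hom.left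
  let mi : E.obj.left ⟶ pullback gX U.hom := iE.inv.hom.left
  have hm : m ≫ E.obj.hom = pullback.fst gX U.hom := Over.w iE.hom.hom
  have hmi : mi ≫ pullback.fst gX U.hom = E.obj.hom := Over.w iE.inv.hom
  have him : mi ≫ m = 𝟙 _ := congrArg (fun b : E ⟶ E => b.hom.left) iE.inv_hom_id
  let Z₅ := pullback π U.hom
  let π₅ : Z₅ ⟶ U.left := pullback.snd π U.hom
  let e₅ : Z₅ ⟶ S' := pullback.fst π U.hom ≫ e
  let m₅ : Z₅ ⟶ pullback gX U.hom := pullback.lift (pullback.fst π U.hom ≫ u) (pullback.snd π U.hom)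
    (by rw [Category.assoc, hu]; exact pullback.condition)
  let val : Z₅ ⟶ pullback D.obj.hom e := hsq.lift (m₅ ≫ m) (pullback.fst π U.hom)
    (by rw [Category.assoc, hm]; exact pullback.lift_fst _ _ _)
  have hval₁ : val ≫ qE = m₅ ≫ m := hsq.lift_fst _ _ _
  have hval₂ : val ≫ pullback.snd D.obj.hom e = pullback.fst π U.hom := hsq.lift_snd _ _ _
  let ν : RefSec D (U.hom ≫ jT) π₅ e₅ :=
    { val := val ≫ pullback.fst D.obj.hom e
      over_ := by rw [Category.assoc, pullback.condition, ← Category.assoc, hval₂]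
      comm := by
        show pullback.snd π U.hom ≫ U.hom ≫ jT = (pullback.fst π U.hom ≫ e) ≫ g
        rw [← pullback.condition_assoc, he, Category.assoc]
      compat := fun T' z₀ z₁ hz h v hv => by
        let a₀ := z₀ ≫ pullback.fst π U.hom
        let a₁ := z₁ ≫ pullback.fst π U.hom
        have hp : a₀ ≫ π = a₁ ≫ π := by
          simp only [a₀, a₁, Category.assoc, pullback.condition]
          exact (Category.assoc _ _ _).symm.trans ((congrArg (· ≫ U.hom) hz).trans (Category.assoc _ _ _))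
        have hX : (a₀ ≫ u) ≫ gX = (a₁ ≫ u) ≫ gX := by simp only [Category.assoc, hu]; exact hp
        have h' : (a₀ ≫ e) ≫ g = (a₁ ≫ e) ≫ g := by
          simp only [Category.assoc, ← he]; exact (Category.assoc _ _ _).symm.trans
            ((congrArg (· ≫ jT) hp).trans (Category.assoc _ _ _))
        let v' : Desc.Lifts D.obj (a₀ ≫ e) := ⟨v.1, v.2.trans (Category.assoc _ _ _).symm⟩
        have hva : pullback.lift v'.1 a₀ v'.2 = z₀ ≫ val := by
          apply pullback.hom_ext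
          · rw [pullback.lift_fst]; exact hv.trans (Category.assoc _ _ _).symm
          · rw [pullback.lift_snd, Category.assoc, hval₂]
        let c₀ : Desc.Lifts ((Desc.toDD gX).obj U).obj (a₀ ≫ u) := ⟨z₀ ≫ m₅, by
          show (z₀ ≫ m₅) ≫ pullback.fst gX U.hom = _
          simp only [m₅, a₀, Category.assoc, pullback.lift_fst]⟩
        let w : Desc.Lifts E.obj (a₀ ≫ u) := ⟨(z₀ ≫ m₅) ≫ m, by
          rw [Category.assoc, hm]; exact c₀.2⟩
        have h1 := hcompat a₀ a₁ h' hX v' w (by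
          show (z₀ ≫ m₅) ≫ m = _
          rw [hva, Category.assoc, Category.assoc, hval₁])
        have h2 : (E.φ (a₀ ≫ u) (a₁ ≫ u) hX w).1 =
            (((Desc.toDD gX).obj U).φ (a₀ ≫ u) (a₁ ≫ u) hX c₀).1 ≫ m :=
          iE.hom.comm (a₀ ≫ u) (a₁ ≫ u) hX c₀ w rfl
        have h3 : (((Desc.toDD gX).obj U).φ (a₀ ≫ u) (a₁ ≫ u) hX c₀).1 = z₁ ≫ m₅ := by
          show pullback.lift (a₁ ≫ u) ((z₀ ≫ m₅) ≫ pullback.snd gX U.hom) _ = z₁ ≫ m₅
          apply pullback.hom_ext
          · rw [pullback.lift_fst]; simp only [m₅, a₁, Category.assoc, pullback.lift_fst]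
          · rw [pullback.lift_snd]; simp only [m₅, Category.assoc, pullback.lift_snd]; exact hz
        have h4 : transPt D e a₀ a₁ h' v' = z₁ ≫ val := by
          refine hsq.hom_ext ?_ ?_
          · rw [← h1, h2, h3, Category.assoc, Category.assoc, hval₁]
          · rw [Category.assoc, hval₂]; exact pullback.lift_snd _ _ _
        refine (φ_congr D (Category.assoc _ _ _).symm (Category.assoc _ _ _).symm _ h' v v' rfl).trans ?_
        have h5 := congrArg (· ≫ pullback.fst D.obj.hom e) h4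
        simp only [transPt, pullback.lift_fst, Category.assoc] at h5
        exact h5 }
  haveI : QuasiCompact π := inferInstance
  have hπ₅ : SGA1.UnivSubmersive π₅ :=
    MorphismProperty.pullback_snd _ _ (Subtr12.univSubmersive_of_univSSubtrusive π hπ)
  obtain ⟨σ, hσ⟩ := exists_sec_of_refinement D hπ₅ ν
  refine ⟨U.left, U.hom ≫ jT, inferInstance, σ, ?_⟩
  -- the given point
  obtain ⟨t₀, ht₀⟩ := hx
  obtain ⟨z₀, hz₀⟩ := Subtr12.surjective_of_univ hπ t₀
  obtain ⟨p, hp₁, hp₂⟩ := Scheme.Pullback.exists_preimage_pullback (f := π ≫ jT) (g := D.obj.hom ≫ g) z₀ x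
    (by rw [Scheme.Hom.comp_apply, Scheme.Hom.comp_apply, hz₀, ht₀])
  let P := pullback (π ≫ jT) (D.obj.hom ≫ g)
  let y := P.fromSpecResidueField p
  let zK := y ≫ pullback.fst (π ≫ jT) (D.obj.hom ≫ g)
  let xK := y ≫ pullback.snd (π ≫ jT) (D.obj.hom ≫ g)
  have hxz : (xK ≫ D.obj.hom) ≫ g = (zK ≫ e) ≫ g := by
    simp only [xK, zK, Category.assoc, ← he]
    exact congrArg (y ≫ ·) pullback.condition.symm
  have hxKx : xK (default : Spec (CommRingCat.of (P.residueField p))) = x := by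
    rw [Scheme.Hom.comp_apply]
    erw [Scheme.fromSpecResidueField_apply]
    exact hp₂
  let v : Desc.Lifts D.obj (zK ≫ e) := D.φ (xK ≫ D.obj.hom) (zK ≫ e) hxz ⟨xK, rfl⟩
  let yE : Spec (CommRingCat.of (P.residueField p)) ⟶ pullback D.obj.hom e := pullback.lift v.1 zK v.2
  let uK := (yE ≫ qE ≫ mi) ≫ pullback.snd gX U.hom
  have hz5 : zK ≫ π = uK ≫ U.hom := by
    simp only [uK, Category.assoc, ← pullback.condition]
    rw [reassoc_of% hmi, hsq.w_assoc, hu, ← Category.assoc yE, pullback.lift_snd]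
  let z5 : Spec (CommRingCat.of (P.residueField p)) ⟶ Z₅ := pullback.lift zK uK hz5
  have hm5 : z5 ≫ m₅ = yE ≫ qE ≫ mi := by
    apply pullback.hom_ext
    · simp only [z5, m₅, Category.assoc, pullback.lift_fst, pullback.lift_fst_assoc, hmi, hsq.w]
      rw [← Category.assoc yE, pullback.lift_snd]
    · simp only [z5, m₅, uK, Category.assoc, pullback.lift_snd]
  have hv5 : z5 ≫ val = yE := by
    refine hsq.hom_ext ?_ ?_
    · rw [Category.assoc, hval₁, reassoc_of% hm5, him, Category.comp_id]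
    · rw [Category.assoc, hval₂, pullback.lift_fst, pullback.lift_snd]
  have h5 : (z5 ≫ π₅) ≫ U.hom ≫ jT = (z5 ≫ e₅) ≫ g :=
    (Category.assoc _ _ _).trans ((congrArg (z5 ≫ ·) ν.comm).trans (Category.assoc _ _ _).symm)
  have hze : z5 ≫ e₅ = zK ≫ e := pullback.lift_fst_assoc _ _ _ _
  have h6 : (z5 ≫ π₅) ≫ U.hom ≫ jT = (xK ≫ D.obj.hom) ≫ g := by rw [h5, hze, hxz]
  have hev : (σ.eval (i := PUnit.unit) (z5 ≫ π₅) (xK ≫ D.obj.hom) h6).1 = xK := by
    refine ((congrArg Subtype.val (σ.eval_compat (i := PUnit.unit) (j := PUnit.unit) (z5 ≫ π₅) (z5 ≫ e₅)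
      (xK ≫ D.obj.hom) h5 h6)).symm).trans ?_
    refine (φ_congr D hze rfl (h5.symm.trans h6) hxz.symm _ v ?_).trans ?_
    · refine (hσ z5 h5).trans ?_
      show z5 ≫ val ≫ pullback.fst D.obj.hom e = _
      rw [← Category.assoc, hv5, pullback.lift_fst]
    · show (D.φ (zK ≫ e) (xK ≫ D.obj.hom) hxz.symm (D.φ (xK ≫ D.obj.hom) (zK ≫ e) hxz ⟨xK, rfl⟩)).1 = xK
      rw [D.φ_comp, D.φ_self]
  refine ⟨pullback.lift (z5 ≫ π₅) (xK ≫ D.obj.hom) h6 (default : Spec (CommRingCat.of (P.residueField p))), ?_⟩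
  rw [← Scheme.Hom.comp_apply]
  show (σ.eval (i := PUnit.unit) (z5 ≫ π₅) (xK ≫ D.obj.hom) h6).1 default = x
  rw [hev]
  exact hxKx

/-- Descent along quasi-compact universally subtrusive morphisms. -/
theorem exists_effective_of_univSSubtrusive_qc [QuasiCompact g] (hg : Subtr.UnivSSubtrusive g)
    (D : Desc.SchDD g) [IsSeparated D.obj.hom] [Etale D.obj.hom] [QuasiCompact D.obj.hom] :
    ∃ U : Over S, QuasiCompact U.hom ∧ IsSeparated U.hom ∧ Etale U.hom ∧
      Nonempty ((Desc.toDD g).obj U ≅ D) := by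
  obtain ⟨U, h₁, h₂, h₃, h₄⟩ := exists_effective (Subtr12.univSubmersive_of_univSSubtrusive g hg) D fun x => by
    obtain ⟨V, hV, hsV, -⟩ := exists_isAffineOpen_mem_and_subset (x := g (D.obj.hom x)) (U := ⊤) trivial
    haveI : IsAffine (V : Scheme.{u}) := hV
    haveI : CompactSpace (g ⁻¹ᵁ V).toScheme :=
      QuasiCompact.compactSpace_of_compactSpace (g ∣_ V)
    let 𝒰 := (g ⁻¹ᵁ V).toScheme.affineCover.finiteSubcover
    haveI : ∀ i, IsAffine (𝒰.X i) := fun i => inferInstanceAs (IsAffine ((g ⁻¹ᵁ V).toScheme.affineCover.X _))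
    let e₁ : (∐ 𝒰.X) ⟶ (g ⁻¹ᵁ V).toScheme := Sigma.desc 𝒰.f
    haveI : IsAffine (∐ 𝒰.X) := inferInstance
    refine hasSectionAt_of_affine_cover D V.ι (e₁ ≫ g ∣_ V) ?_ (e₁ ≫ (g ⁻¹ᵁ V).ι)
      (by rw [Category.assoc, Category.assoc, morphismRestrict_ι]) x ⟨⟨_, hsV⟩, rfl⟩
    intro X' Y' i₁ i₂ f' hsq y y' hy
    let f₂ := pullback.snd (g ∣_ V) i₂
    obtain ⟨w, w', hw, hwy, hwy'⟩ :=
      Subtr12.isSSubtrusive_pullback (Subtr12.isSSubtrusive_restrict hg V) i₂ hy
    let k : X' ⟶ pullback (g ∣_ V) i₂ := pullback.lift (i₁ ≫ e₁) f' (by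
      rw [Category.assoc]; exact hsq.w.symm)
    have hk : IsPullback k i₁ (pullback.fst (g ∣_ V) i₂) e₁ := by
      refine IsPullback.of_right ?_ (pullback.lift_fst _ _ _) (IsPullback.of_hasPullback (g ∣_ V) i₂).flip
      rw [show k ≫ pullback.snd (g ∣_ V) i₂ = f' from pullback.lift_snd _ _ _]
      exact hsq
    haveI : Flat e₁ := IsZariskiLocalAtSource.sigmaDesc fun i => inferInstance
    haveI : Surjective e₁ := ⟨fun p => by
      obtain ⟨q, hq⟩ := 𝒰.covers p
      exact ⟨Sigma.ι 𝒰.X (𝒰.idx p) q, by rw [← Scheme.Hom.comp_apply, Sigma.ι_desc]; exact hq⟩⟩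
    haveI : Flat k := MorphismProperty.of_isPullback hk.flip ‹Flat e₁›
    haveI : Surjective k := MorphismProperty.of_isPullback hk.flip ‹Surjective e₁›
    obtain ⟨q, q', hq, hqw, hqw'⟩ := Subtr12.isSSubtrusive_of_flat k hw
    have hf : ∀ r, f' r = pullback.snd (g ∣_ V) i₂ (k r) := fun r => by
      rw [← Scheme.Hom.comp_apply, pullback.lift_snd]
    exact ⟨q, q', hq, by rw [hf, hqw, hwy], by rw [hf, hqw', hwy']⟩
  exact ⟨U, h₃ inferInstance inferInstance, h₁, h₂, h₄⟩

end Groth.Agent.EtEff25
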