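import Groth.Prelude.Def_Desc
import Mathlib.AlgebraicGeometry.PullbackCarrier

/-!
# A descent datum from a translation on the fibre product
-/

set_option autoImplicit false
set_option backward.isDefEq.respectTransparency false
set_option backward.isDefEq.respectTransparency.types false
universe u

open CategoryTheory CategoryTheory.Limits AlgebraicGeometry

namespace Groth.Agent.EtEff25

variable {X T : Scheme.{u}} {q : X ⟶ T} {E : Over X} (θ : pullback (E.hom ≫ q) q ⟶ E.left)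
  (hθ : θ ≫ E.hom = pullback.snd (E.hom ≫ q) q)

/-- Translation of points along `θ`. -/
noncomputable def thetaPt ⦃T' : Scheme.{u}⦄ (x₀ x₁ : T' ⟶ X) (h : x₀ ≫ q = x₁ ≫ q)
    (v : Desc.Lifts E x₀) : Desc.Lifts E x₁ :=
  ⟨pullback.lift v.1 x₁ (by rw [← Category.assoc, v.2, h]) ≫ θ, by
    rw [Category.assoc, hθ, pullback.lift_snd]⟩

theorem thetaPt_congr {T' : Scheme.{u}} {a a' : T' ⟶ E.left} {x x' : T' ⟶ X} (ha : a = a') (hx : x = x')
    (h : a ≫ E.hom ≫ q = x ≫ q) (h' : a' ≫ E.hom ≫ q = x' ≫ q) :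
    pullback.lift a x h ≫ θ = pullback.lift a' x' h' ≫ θ := by
  subst ha hx; rfl

variable (hs : pullback.lift (𝟙 E.left) E.hom (by simp) ≫ θ = 𝟙 E.left)
  (hc : pullback.lift (f := E.hom ≫ q) (g := q)
      (pullback.fst ((pullback.fst (E.hom ≫ q) q ≫ E.hom ≫ q)) q ≫ θ) (pullback.snd _ q) (by
        rw [Category.assoc, reassoc_of% hθ, ← pullback.condition (f := E.hom ≫ q)]
        exact pullback.condition) ≫ θ =
    pullback.lift (f := E.hom ≫ q) (g := q)
      (pullback.fst ((pullback.fst (E.hom ≫ q) q ≫ E.hom ≫ q)) q ≫ pullback.fst _ _) (pullback.snd _ q) (by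
        rw [Category.assoc]; exact pullback.condition) ≫ θ)

include hs in
theorem thetaPt_self {T' : Scheme.{u}} (x : T' ⟶ X) (v : Desc.Lifts E x) :
    thetaPt θ hθ x x rfl v = v := by
  refine Subtype.ext ?_
  show pullback.lift v.1 x _ ≫ θ = v.1
  rw [show pullback.lift v.1 x (by rw [← Category.assoc, v.2]) =
      v.1 ≫ pullback.lift (𝟙 E.left) E.hom (by simp) by
    apply pullback.hom_ext <;> simp [v.2], Category.assoc, hs, Category.comp_id]

include hc in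
theorem thetaPt_comp {T' : Scheme.{u}} (x₀ x₁ x₂ : T' ⟶ X) (h₀₁ : x₀ ≫ q = x₁ ≫ q) (h₁₂ : x₁ ≫ q = x₂ ≫ q)
    (v : Desc.Lifts E x₀) :
    thetaPt θ hθ x₁ x₂ h₁₂ (thetaPt θ hθ x₀ x₁ h₀₁ v) = thetaPt θ hθ x₀ x₂ (h₀₁.trans h₁₂) v := by
  refine Subtype.ext ?_
  let a₁ := pullback.lift (f := E.hom ≫ q) (g := q) v.1 x₁ (by rw [← Category.assoc, v.2, h₀₁])
  have ha : a₁ ≫ pullback.fst (E.hom ≫ q) q ≫ E.hom ≫ q = x₂ ≫ q := by
    rw [pullback.lift_fst_assoc, ← Category.assoc, v.2, h₀₁, h₁₂]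
  let m := pullback.lift (f := pullback.fst (E.hom ≫ q) q ≫ E.hom ≫ q) (g := q) a₁ x₂ ha
  have h := congrArg (m ≫ ·) hc

  replace h := (Category.assoc _ _ _).trans (h.trans (Category.assoc _ _ _).symm)
  have e₁ : ∀ (a : pullback (pullback.fst (E.hom ≫ q) q ≫ E.hom ≫ q) q ⟶ E.left) w,
      m ≫ pullback.lift (f := E.hom ≫ q) (g := q) a (pullback.snd _ q) w =
        pullback.lift (m ≫ a) x₂ (by rw [Category.assoc, w, ← Category.assoc, pullback.lift_snd]) := by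
    intro a w
    apply pullback.hom_ext <;> simp [m]
  rw [e₁, e₁] at h
  refine Eq.trans ?_ (h.trans ?_)
  · exact thetaPt_congr θ (pullback.lift_fst_assoc _ _ _ _).symm rfl _ _
  · exact thetaPt_congr θ ((pullback.lift_fst_assoc _ _ _ _).trans (pullback.lift_fst _ _ _)) rfl _ _

/-- The descent datum given by a unital associative translation. -/
noncomputable def dataOfIso : Desc.SchDD q where
  obj := E
  φ _ x₀ x₁ h :=
    { toFun := thetaPt θ hθ x₀ x₁ h
      invFun := thetaPt θ hθ x₁ x₀ h.symm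
      left_inv := fun v => (thetaPt_comp θ hθ hc x₀ x₁ x₀ h h.symm v).trans (thetaPt_self θ hθ hs x₀ v)
      right_inv := fun v => (thetaPt_comp θ hθ hc x₁ x₀ x₁ h.symm h v).trans (thetaPt_self θ hθ hs x₁ v) }
  φ_natural T' T'' c x₀ x₁ h h' v v' hv := by
    show pullback.lift v'.1 (c ≫ x₁) _ ≫ θ = c ≫ pullback.lift v.1 x₁ _ ≫ θ
    rw [← Category.assoc c]
    congr 1
    apply pullback.hom_ext <;> simp [hv]
  φ_self _ x v := thetaPt_self θ hθ hs x v
  φ_comp _ x₀ x₁ x₂ h₀₁ h₁₂ v := thetaPt_comp θ hθ hc x₀ x₁ x₂ h₀₁ h₁₂ v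

theorem dataOfIso_φ {T' : Scheme.{u}} (x₀ x₁ : T' ⟶ X) (h : x₀ ≫ q = x₁ ≫ q) (v : Desc.Lifts E x₀) :
    ((dataOfIso θ hθ hs hc).φ x₀ x₁ h v).1 =
      pullback.lift v.1 x₁ (by rw [← Category.assoc, v.2, h]) ≫ θ := rfl

end Groth.Agent.EtEff25
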