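import Mathlib.AlgebraicGeometry.Morphisms.Affine
import Mathlib.AlgebraicGeometry.PullbackCarrier
import Mathlib.CategoryTheory.Limits.Shapes.Pullback.HasPullback
import Groth.Prelude.Def_Desc

/-!
# Fibre products of two systems over a fixed base
-/

set_option autoImplicit false
set_option backward.isDefEq.respectTransparency false
set_option backward.isDefEq.respectTransparency.types false
universe u

open CategoryTheory CategoryTheory.Limits AlgebraicGeometry

namespace Groth.Agent.EtEff25

variable {J : Type u} [SmallCategory J] {T : Scheme.{u}}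

/-- The fibre product over `T` of two systems. -/
noncomputable def prodSys (A B : J ⥤ Scheme.{u}) (a : A ⟶ (Functor.const J).obj T)
    (b : B ⟶ (Functor.const J).obj T) : J ⥤ Scheme.{u} where
  obj k := pullback (a.app k) (b.app k)
  map {k l} f := pullback.map (a.app k) (b.app k) (a.app l) (b.app l) (A.map f) (B.map f) (𝟙 T)
    (by simpa using (a.naturality f).symm) (by simpa using (b.naturality f).symm)
  map_id k := by apply pullback.hom_ext <;> simp
  map_comp f g := by apply pullback.hom_ext <;> simp

variable {A B : J ⥤ Scheme.{u}} (a : A ⟶ (Functor.const J).obj T) (b : B ⟶ (Functor.const J).obj T)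

theorem prodSys_map_fst {k l : J} (f : k ⟶ l) :
    (prodSys A B a b).map f ≫ pullback.fst (a.app l) (b.app l) = pullback.fst _ _ ≫ A.map f := by
  simp [prodSys]

theorem prodSys_map_snd {k l : J} (f : k ⟶ l) :
    (prodSys A B a b).map f ≫ pullback.snd (a.app l) (b.app l) = pullback.snd _ _ ≫ B.map f := by
  simp [prodSys]

/-- The map of the product system to the base. -/
noncomputable def prodBase : prodSys A B a b ⟶ (Functor.const J).obj T where
  app k := pullback.fst (a.app k) (b.app k) ≫ a.app k
  naturality k l f := by
    have := a.naturality f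
    simp only [Functor.const_obj_map, Category.comp_id, Functor.const_obj_obj] at this ⊢
    rw [← Category.assoc, prodSys_map_fst, Category.assoc, this]

variable (cA : Cone A) (cB : Cone B) {qA : cA.pt ⟶ T} {qB : cB.pt ⟶ T}
  (hA : ∀ k, cA.π.app k ≫ a.app k = qA) (hB : ∀ k, cB.π.app k ≫ b.app k = qB)

/-- The cone with vertex the fibre product of the vertices. -/
noncomputable def prodCone : Cone (prodSys A B a b) where
  pt := pullback qA qB
  π :=
    { app := fun k => pullback.map qA qB (a.app k) (b.app k) (cA.π.app k) (cB.π.app k) (𝟙 T)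
        (by rw [Category.comp_id, hA]) (by rw [Category.comp_id, hB])
      naturality := fun k l f => by
        dsimp
        rw [Category.id_comp]
        apply pullback.hom_ext <;> simp [prodSys] }

theorem prodCone_fst (k : J) :
    (prodCone a b cA cB hA hB).π.app k ≫ pullback.fst (a.app k) (b.app k) = pullback.fst qA qB ≫ cA.π.app k := by
  simp [prodCone]

theorem prodCone_snd (k : J) :
    (prodCone a b cA cB hA hB).π.app k ≫ pullback.snd (a.app k) (b.app k) = pullback.snd qA qB ≫ cB.π.app k := by
  simp [prodCone]

/-- The fibre product of the limits is the limit of the product system. -/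
noncomputable def prodIsLimit [Nonempty J] (lA : IsLimit cA) (lB : IsLimit cB) :
    IsLimit (prodCone a b cA cB hA hB) where
  lift s := pullback.lift
    (lA.lift ⟨s.pt, ⟨fun k => s.π.app k ≫ pullback.fst (a.app k) (b.app k), fun k l f => by
      dsimp
      rw [Category.id_comp, Category.assoc, ← prodSys_map_fst a b f, ← Category.assoc, s.w]⟩⟩)
    (lB.lift ⟨s.pt, ⟨fun k => s.π.app k ≫ pullback.snd (a.app k) (b.app k), fun k l f => by
      dsimp
      rw [Category.id_comp, Category.assoc, ← prodSys_map_snd a b f, ← Category.assoc, s.w]⟩⟩)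
    (by
      obtain ⟨k⟩ := ‹Nonempty J›
      rw [← hA k, ← hB k, lA.fac_assoc, lB.fac_assoc]
      exact (Category.assoc _ _ _).trans
        ((congrArg (s.π.app k ≫ ·) pullback.condition).trans (Category.assoc _ _ _).symm))
  fac s k := by
    apply pullback.hom_ext
    · rw [Category.assoc, prodCone_fst, pullback.lift_fst_assoc, lA.fac]
    · rw [Category.assoc, prodCone_snd, pullback.lift_snd_assoc, lB.fac]
  uniq s m hm := by
    apply pullback.hom_ext
    · rw [pullback.lift_fst]
      refine lA.uniq ⟨s.pt, _⟩ _ fun k => ?_
      rw [Category.assoc, ← prodCone_fst a b cA cB hA hB k, ← Category.assoc]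
      exact congrArg (· ≫ _) (hm k)
    · rw [pullback.lift_snd]
      refine lB.uniq ⟨s.pt, _⟩ _ fun k => ?_
      rw [Category.assoc, ← prodCone_snd a b cA cB hA hB k, ← Category.assoc]
      exact congrArg (· ≫ _) (hm k)

theorem compactSpace_prodSys (k : J) [IsAffineHom (b.app k)] [CompactSpace (A.obj k)] :
    CompactSpace ((prodSys A B a b).obj k) :=
  haveI : IsAffineHom (pullback.fst (a.app k) (b.app k)) := MorphismProperty.pullback_fst _ _ inferInstance
  QuasiCompact.compactSpace_of_compactSpace (pullback.fst (a.app k) (b.app k))

theorem quasiSeparatedSpace_prodSys (k : J) [IsAffineHom (b.app k)] [QuasiSeparatedSpace (A.obj k)] :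
    QuasiSeparatedSpace ((prodSys A B a b).obj k) :=
  haveI : IsAffineHom (pullback.fst (a.app k) (b.app k)) := MorphismProperty.pullback_fst _ _ inferInstance
  quasiSeparatedSpace_of_quasiSeparated (pullback.fst (a.app k) (b.app k))

theorem isAffineHom_prodSys_map {k l : J} (f : k ⟶ l) [IsSeparated (a.app l)] [IsAffineHom (b.app k)]
    [IsAffineHom (A.map f)] [IsSeparated (b.app l)] : IsAffineHom ((prodSys A B a b).map f) := by
  haveI : IsAffineHom (pullback.fst (a.app k) (b.app k)) := MorphismProperty.pullback_fst _ _ inferInstance
  haveI : IsSeparated (pullback.fst (a.app l) (b.app l)) := MorphismProperty.pullback_fst _ _ inferInstance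
  haveI : IsAffineHom ((prodSys A B a b).map f ≫ pullback.fst (a.app l) (b.app l)) := by
    rw [prodSys_map_fst]; infer_instance
  exact IsAffineHom.of_comp _ (pullback.fst (a.app l) (b.app l))

end Groth.Agent.EtEff25
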