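import Groth.Agent.Lib.EtEff25.Refine
import Groth.Agent.Lib.EtEff25.ProdSys
import Groth.Agent.Lib.EtEff25.DataOfIso
import Groth.Agent.Lib.AlgColimH13.Spec
import Groth.Agent.Lib.LimH13.DescendFP
import Groth.Agent.Lib.LimH13.Descend
import Groth.Agent.Lib.Descend.EtaleGlobal

/-!
# Étale descent data descend to finitely presented models of affine coverings
-/

set_option autoImplicit false
set_option linter.style.haveILetI false
set_option backward.isDefEq.respectTransparency false
set_option backward.isDefEq.respectTransparency.types false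
universe u

open CategoryTheory CategoryTheory.Limits AlgebraicGeometry

namespace Groth.Agent.EtEff25

open Groth.Agent.Descend (pbDiagram pbCone pbIsLimit pbFst pbSnd overT)

attribute [local instance] IsCofiltered.isConnected

variable {S S' : Scheme.{u}} {g : S' ⟶ S} (D : Desc.SchDD g) [IsSeparated D.obj.hom] [Etale D.obj.hom]

/-- The translated point of the pulled back object. -/
noncomputable def transPt {Z : Scheme.{u}} (e : Z ⟶ S') {T' : Scheme.{u}} (z₀ z₁ : T' ⟶ Z)
    (h : (z₀ ≫ e) ≫ g = (z₁ ≫ e) ≫ g) (v : Desc.Lifts D.obj (z₀ ≫ e)) :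
    T' ⟶ pullback D.obj.hom e :=
  pullback.lift (D.φ (z₀ ≫ e) (z₁ ≫ e) h v).1 z₁ (D.φ (z₀ ≫ e) (z₁ ≫ e) h v).2

theorem transPt_comp {Z : Scheme.{u}} (e : Z ⟶ S') {T' T'' : Scheme.{u}} (c : T'' ⟶ T') (z₀ z₁ : T' ⟶ Z)
    (h : (z₀ ≫ e) ≫ g = (z₁ ≫ e) ≫ g) (v : Desc.Lifts D.obj (z₀ ≫ e)) (y₀ y₁ : T'' ⟶ Z)
    (hy₀ : c ≫ z₀ = y₀) (hy₁ : c ≫ z₁ = y₁) (h' : (y₀ ≫ e) ≫ g = (y₁ ≫ e) ≫ g)
    (v' : Desc.Lifts D.obj (y₀ ≫ e)) (hv : v'.1 = c ≫ v.1) :
    c ≫ transPt D e z₀ z₁ h v = transPt D e y₀ y₁ h' v' := by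
  apply pullback.hom_ext
  · simp only [transPt, Category.assoc, pullback.lift_fst]
    have h'' : (c ≫ z₀ ≫ e) ≫ g = (c ≫ z₁ ≫ e) ≫ g :=
      (Category.assoc _ _ _).trans ((congrArg (c ≫ ·) h).trans (Category.assoc _ _ _).symm)
    refine (D.φ_natural c (z₀ ≫ e) (z₁ ≫ e) h h'' v
      ⟨c ≫ v.1, by rw [Category.assoc, v.2]⟩ rfl).symm.trans ?_
    exact φ_congr D (by rw [← Category.assoc, hy₀]) (by rw [← Category.assoc, hy₁]) _ _ _ _ hv.symm
  · simp only [transPt, Category.assoc, pullback.lift_snd]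
    exact hy₁

set_option maxHeartbeats 1000000 in
/-- A finitely presented model of an étale descent datum along a morphism of affine schemes. -/
theorem exists_model_datum {T Z : Scheme.{u}} [IsAffine T] [IsAffine Z] (π : Z ⟶ T) (jT : T ⟶ S) (e : Z ⟶ S')
    (he : π ≫ jT = e ≫ g) [QuasiCompact D.obj.hom] :
    ∃ (X : Scheme.{u}) (u : Z ⟶ X) (gX : X ⟶ T) (E : Desc.SchDD gX)
      (qE : pullback D.obj.hom e ⟶ E.obj.left),
      u ≫ gX = π ∧ LocallyOfFinitePresentation gX ∧ QuasiCompact gX ∧ QuasiSeparated gX ∧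
        IsSeparated E.obj.hom ∧ Etale E.obj.hom ∧ QuasiCompact E.obj.hom ∧
        IsPullback qE (pullback.snd D.obj.hom e) E.obj.hom u ∧
        ∀ ⦃T' : Scheme.{u}⦄ (z₀ z₁ : T' ⟶ Z) (h : (z₀ ≫ e) ≫ g = (z₁ ≫ e) ≫ g)
          (hX : (z₀ ≫ u) ≫ gX = (z₁ ≫ u) ≫ gX) (v : Desc.Lifts D.obj (z₀ ≫ e))
          (w : Desc.Lifts E.obj (z₀ ≫ u)), w.1 = pullback.lift v.1 z₀ v.2 ≫ qE →
            (E.φ (z₀ ≫ u) (z₁ ≫ u) hX w).1 = transPt D e z₀ z₁ h v ≫ qE := by
  let ψ : Spec Γ(T, ⊤) ⟶ T := T.isoSpec.inv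
  letI : Algebra Γ(T, ⊤) Γ(Z, ⊤) := π.appTop.hom.toAlgebra
  let I := (AlgColimH13.Idx Γ(T, ⊤) Γ(Z, ⊤))ᵒᵖ
  let Dg : I ⥤ Scheme.{u} := (AlgColimH13.ringDiag Γ(T, ⊤) Γ(Z, ⊤)).op ⋙ Scheme.Spec
  let t : Dg ⟶ (Functor.const I).obj T :=
    { app := fun i => Spec.map (AlgColimH13.str Γ(T, ⊤) Γ(Z, ⊤) i.unop) ≫ ψ
      naturality := fun i j a => by
        show Spec.map ((AlgColimH13.ringDiag Γ(T, ⊤) Γ(Z, ⊤)).map a.unop) ≫
          Spec.map (AlgColimH13.str Γ(T, ⊤) Γ(Z, ⊤) j.unop) ≫ ψ =
          (Spec.map (AlgColimH13.str Γ(T, ⊤) Γ(Z, ⊤) i.unop) ≫ ψ) ≫ 𝟙 _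
        rw [← Category.assoc, ← Spec.map_comp, AlgColimH13.str_map, Category.comp_id] }
  let c₀ : Cone Dg :=
    { pt := Spec Γ(Z, ⊤)
      π := { app := fun i => Spec.map (AlgColimH13.proj Γ(T, ⊤) Γ(Z, ⊤) i.unop)
             naturality := fun i j a => by
              show 𝟙 _ ≫ Spec.map (AlgColimH13.proj Γ(T, ⊤) Γ(Z, ⊤) j.unop) =
                Spec.map (AlgColimH13.proj Γ(T, ⊤) Γ(Z, ⊤) i.unop) ≫
                  Spec.map ((AlgColimH13.ringDiag Γ(T, ⊤) Γ(Z, ⊤)).map a.unop)
              rw [Category.id_comp, ← Spec.map_comp, AlgColimH13.map_proj] } }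
  have hc₀ : IsLimit c₀ := (IsLimit.equivIsoLimit (Cone.ext (Iso.refl _) fun i => (Category.id_comp _).symm))
    (isLimitOfPreserves Scheme.Spec (AlgColimH13.ringIsColimit Γ(T, ⊤) Γ(Z, ⊤)).op)
  let c : Cone Dg :=
    { pt := Z
      π := { app := fun i => Z.isoSpec.hom ≫ c₀.π.app i
             naturality := fun i j a => by
              show 𝟙 _ ≫ Z.isoSpec.hom ≫ c₀.π.app j = (Z.isoSpec.hom ≫ c₀.π.app i) ≫ Dg.map a
              rw [Category.id_comp, Category.assoc, c₀.w] } }
  have hc : IsLimit c := IsLimit.ofIsoLimit hc₀ (Cone.ext Z.isoSpec.symm fun i => by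
    show c₀.π.app i = Z.isoSpec.inv ≫ Z.isoSpec.hom ≫ c₀.π.app i
    rw [Iso.inv_hom_id_assoc])
  have hct : ∀ i, c.π.app i ≫ t.app i = π := fun i => by
    show (Z.isoSpec.hom ≫ Spec.map _) ≫ Spec.map _ ≫ ψ = π
    rw [Category.assoc, ← Category.assoc (Spec.map _), ← Spec.map_comp, AlgColimH13.str_proj]
    show Z.isoSpec.hom ≫ Spec.map π.appTop ≫ T.isoSpec.inv = π
    rw [Scheme.isoSpec_inv_naturality, Iso.hom_inv_id_assoc]
  haveI : ∀ i, IsAffine (Dg.obj i) := fun i => inferInstanceAs (IsAffine (Spec _))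
  haveI : ∀ {i j : I} (a : i ⟶ j), IsAffineHom (Dg.map a) := fun a => isAffineHom_of_isAffine _
  haveI : ∀ (i j : I) (a : i ⟶ j), IsAffineHom (Dg.map a) := fun _ _ a => isAffineHom_of_isAffine _
  haveI : ∀ i, IsAffineHom (t.app i) := fun i => isAffineHom_of_isAffine (Y := T) _
  haveI : ∀ i, LocallyOfFinitePresentation (t.app i) := fun i => by
    haveI hfp : Algebra.FinitePresentation Γ(T, ⊤) i.unop.Ring := inferInstance
    haveI : LocallyOfFinitePresentation (Spec.map (AlgColimH13.str Γ(T, ⊤) Γ(Z, ⊤) i.unop)) :=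
      (LocallyOfFinitePresentation.SpecMap_iff _).2 (RingHom.finitePresentation_algebraMap.2 hfp)
    exact inferInstanceAs (LocallyOfFinitePresentation (Spec.map _ ≫ ψ))
  -- the model of the scheme
  let pE : pullback D.obj.hom e ⟶ Z := pullback.snd D.obj.hom e
  haveI : CompactSpace (pullback D.obj.hom e : Scheme.{u}) := QuasiCompact.compactSpace_of_compactSpace pE
  haveI : QuasiSeparatedSpace (pullback D.obj.hom e : Scheme.{u}) := quasiSeparatedSpace_of_quasiSeparated pE
  let pc : pullback D.obj.hom e ⟶ c.pt := pE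
  haveI : LocallyOfFinitePresentation pc := inferInstanceAs (LocallyOfFinitePresentation pE)
  obtain ⟨i, P₁, p₁, q₁, h1, h2, h3, hsq₁⟩ := LimH13.hasModel_of_finitePresentation hc pc
  haveI := h1; haveI := h2; haveI := h3
  haveI : QuasiCompact p₁ := (quasiCompact_iff_compactSpace p₁).2 h2
  haveI : QuasiSeparated p₁ := (quasiSeparated_iff_quasiSeparatedSpace p₁).2 h3
  let c' : Cone (Over.forget i ⋙ Dg) := c.whisker (Over.forget i)
  have hc' : IsLimit c' := (Functor.Initial.isLimitWhiskerEquiv (Over.forget i) c).symm hc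
  have hw : ∀ k, c'.π.app k ≫ (overT Dg i).app k = c.π.app i := fun k => c.w k.hom
  haveI : Etale pc := inferInstanceAs (Etale pE)
  haveI : IsSeparated pc := inferInstanceAs (IsSeparated pE)
  obtain ⟨j₁, hj₁⟩ := Descend.exists_etale (t := overT Dg i) (c := c') hc' hw hsq₁
  obtain ⟨j₂, hj₂⟩ := LimH13.exists_isSeparated (t := overT Dg i) (c := c') hc' hw hsq₁
  let i₁ := IsCofiltered.min j₁ j₂
  obtain ⟨q₀, -, hsq⟩ := LimH13.isPullback_map_stage i₁.hom hsq₁
  let X₀ := Dg.obj i₁.left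
  let E₀ := pullback p₁ (Dg.map i₁.hom)
  let p₀ : E₀ ⟶ X₀ := pullback.snd p₁ (Dg.map i₁.hom)
  haveI : Etale p₀ := MorphismProperty.of_isPullback
    (Descend.pbMap_isPullback (Over.forget i ⋙ Dg) (overT Dg i) p₁ (IsCofiltered.minToLeft j₁ j₂)) hj₁
  haveI : IsSeparated p₀ := MorphismProperty.of_isPullback
    (Descend.pbMap_isPullback (Over.forget i ⋙ Dg) (overT Dg i) p₁ (IsCofiltered.minToRight j₁ j₂)) hj₂
  haveI : QuasiCompact p₀ := MorphismProperty.pullback_snd _ _ ‹QuasiCompact p₁›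
  haveI : CompactSpace E₀ := QuasiCompact.compactSpace_of_compactSpace p₀
  haveI : QuasiSeparatedSpace E₀ := quasiSeparatedSpace_of_quasiSeparated p₀
  -- the systems over the stage
  let J := Over i₁.left
  let Dj : J ⥤ Scheme.{u} := Over.forget i₁.left ⋙ Dg
  let a : Dj ⟶ (Functor.const J).obj X₀ := overT Dg i₁.left
  let tj : Dj ⟶ (Functor.const J).obj T := Functor.whiskerLeft (Over.forget i₁.left) t
  let cj : Cone Dj := c.whisker (Over.forget i₁.left)
  have hcj : IsLimit cj := (Functor.Initial.isLimitWhiskerEquiv (Over.forget i₁.left) c).symm hc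
  have hat : ∀ k, cj.π.app k ≫ a.app k = c.π.app i₁.left := fun k => c.w k.hom
  have hjt : ∀ k, cj.π.app k ≫ tj.app k = π := fun k => hct k.left
  haveI : ∀ k, IsAffineHom (a.app k) := fun k => inferInstanceAs (IsAffineHom (Dg.map k.hom))
  haveI : ∀ k, IsAffineHom (tj.app k) := fun k => inferInstanceAs (IsAffineHom (t.app k.left))
  haveI : ∀ {k l : J} (f : k ⟶ l), IsAffineHom (Dj.map f) := fun f => inferInstanceAs (IsAffineHom (Dg.map f.left))
  let Eg : J ⥤ Scheme.{u} := pbDiagram Dj a p₀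
  let eE : Cone Eg := pbCone Dj a p₀ cj hat hsq
  have heE : IsLimit eE := pbIsLimit Dj a p₀ cj hat hsq hcj
  let tE : Eg ⟶ (Functor.const J).obj T := pbSnd Dj a p₀ ≫ tj
  have heEt : ∀ k, eE.π.app k ≫ tE.app k = pE ≫ π := fun k => by
    show eE.π.app k ≫ pullback.snd p₀ (a.app k) ≫ tj.app k = _
    exact (Descend.pbCone_snd_assoc Dj a p₀ cj hat hsq k (tj.app k)).trans (congrArg (pE ≫ ·) (hjt k))
  haveI : ∀ k, IsAffineHom (pullback.snd p₀ (a.app k) ≫ tj.app k) → True := fun _ _ => trivial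
  haveI : ∀ k, IsSeparated (tE.app k) := fun k => by
    haveI : IsSeparated (pullback.snd p₀ (a.app k)) := MorphismProperty.pullback_snd _ _ ‹IsSeparated p₀›
    haveI : IsSeparated (tj.app k) := inferInstance
    exact inferInstanceAs (IsSeparated (pullback.snd p₀ (a.app k) ≫ tj.app k))
  haveI : ∀ k, CompactSpace (Eg.obj k) := fun k => Descend.pb_compactSpace Dj a p₀ k
  haveI : ∀ k, QuasiSeparatedSpace (Eg.obj k) := fun k => Descend.pb_quasiSeparatedSpace Dj a p₀ k
  haveI : ∀ {k l : J} (f : k ⟶ l), IsAffineHom (Eg.map f) := fun f => Descend.pb_isAffineHom_map Dj a p₀ f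
  let Qg : J ⥤ Scheme.{u} := prodSys Eg Dj tE tj
  let eQ : Cone Qg := prodCone tE tj eE cj heEt hjt
  have heQ : IsLimit eQ := prodIsLimit tE tj eE cj heEt hjt heE hcj
  haveI : ∀ k, CompactSpace (Qg.obj k) := fun k => compactSpace_prodSys tE tj k
  haveI : ∀ k, QuasiSeparatedSpace (Qg.obj k) := fun k => quasiSeparatedSpace_prodSys tE tj k
  haveI : ∀ {k l : J} (f : k ⟶ l), IsAffineHom (Qg.map f) := fun f => isAffineHom_prodSys_map tE tj f
  let tQ : Qg ⟶ (Functor.const J).obj X₀ :=
    { app := fun k => pullback.snd (tE.app k) (tj.app k) ≫ a.app k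
      naturality := fun k l f => by
        have := a.naturality f
        simp only [Functor.const_obj_map, Category.comp_id, Functor.const_obj_obj] at this ⊢
        rw [← Category.assoc, prodSys_map_snd, Category.assoc, this] }
  -- the translation at the limit
  let W := pullback (pE ≫ π) π
  let f₁ : W ⟶ pullback D.obj.hom e := pullback.fst (pE ≫ π) π
  let y₁ : W ⟶ Z := pullback.snd (pE ≫ π) π
  have hy : ((f₁ ≫ pE) ≫ e) ≫ g = (y₁ ≫ e) ≫ g := by
    simp only [Category.assoc, ← he]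
    simp only [← Category.assoc]
    exact congrArg (· ≫ jT) (by
      rw [Category.assoc]; exact pullback.condition)
  let vW : Desc.Lifts D.obj ((f₁ ≫ pE) ≫ e) :=
    ⟨f₁ ≫ pullback.fst D.obj.hom e, by rw [Category.assoc, pullback.condition, Category.assoc]⟩
  let θinf : W ⟶ E₀ := transPt D e (f₁ ≫ pE) y₁ hy vW ≫ q₀
  have hθinf : θinf ≫ p₀ = y₁ ≫ c.π.app i₁.left := by
    simp only [θinf, Category.assoc]
    rw [show q₀ ≫ p₀ = pE ≫ c.π.app i₁.left from hsq.w]
    exact (Category.assoc _ _ _).symm.trans (congrArg (· ≫ c.π.app i₁.left) (pullback.lift_snd _ _ _))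
  obtain ⟨j, θj, hθj, hθj'⟩ := Scheme.exists_π_app_comp_eq_of_locallyOfFinitePresentation Qg tQ p₀ eQ heQ θinf
    (by
      ext k
      show eQ.π.app k ≫ pullback.snd (tE.app k) (tj.app k) ≫ a.app k = θinf ≫ p₀
      rw [hθinf]
      refine (Category.assoc _ _ _).symm.trans ((congrArg (· ≫ a.app k) (prodCone_snd tE tj eE cj heEt hjt k)).trans ?_)
      exact (Category.assoc _ _ _).trans (congrArg (y₁ ≫ ·) (hat k)))
  have hθjp : θj ≫ p₀ = pullback.snd (tE.app j) (tj.app j) ≫ a.app j := hθj'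
  let θh : Qg.obj j ⟶ Eg.obj j := pullback.lift θj (pullback.snd (tE.app j) (tj.app j)) hθjp
  -- unit
  let dg : Eg.obj j ⟶ Qg.obj j :=
    pullback.lift (𝟙 _) (pullback.snd p₀ (a.app j)) (Category.id_comp _)
  let tE₀ : Eg ⟶ (Functor.const J).obj X₀ := pbFst Dj a p₀ ≫ (Functor.const J).map p₀
  obtain ⟨k₁, n₁, hk₁⟩ := Scheme.exists_hom_comp_eq_comp_of_locallyOfFiniteType Eg tE₀ p₀ eE heE
    (i := j) (dg ≫ θj) (pullback.fst p₀ (a.app j))
    (by
      show pullback.fst p₀ (a.app j) ≫ p₀ = (dg ≫ θj) ≫ p₀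
      rw [Category.assoc, hθjp, pullback.condition, ← Category.assoc]
      exact congrArg (· ≫ a.app j) (pullback.lift_snd _ _ _).symm)
    rfl (by
      let dd : pullback D.obj.hom e ⟶ W := pullback.lift (𝟙 _) pE (Category.id_comp _)
      have h1 : eE.π.app j ≫ dg = dd ≫ eQ.π.app j := by
        apply pullback.hom_ext
        · rw [Category.assoc, Category.assoc, prodCone_fst, pullback.lift_fst_assoc, pullback.lift_fst,
            Category.comp_id]
          exact (Category.id_comp _).symm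
        · rw [Category.assoc, Category.assoc, prodCone_snd, pullback.lift_snd_assoc, pullback.lift_snd]
          exact Descend.pbCone_snd Dj a p₀ cj hat hsq j
      rw [← Category.assoc, h1, Category.assoc, hθj]
      refine Eq.trans ?_ (Descend.pbCone_fst Dj a p₀ cj hat hsq j).symm
      show dd ≫ transPt D e (f₁ ≫ pE) y₁ hy vW ≫ q₀ = q₀
      refine Eq.trans ?_ (Category.id_comp q₀)
      rw [← Category.assoc]
      congr 1
      rw [transPt_comp D e dd (f₁ ≫ pE) y₁ hy vW pE pE (pullback.lift_fst_assoc _ _ _ _ |>.trans (Category.id_comp _))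
        (pullback.lift_snd _ _ _) rfl ⟨pullback.fst D.obj.hom e, pullback.condition⟩
        ((pullback.lift_fst_assoc _ _ _ _).trans (Category.id_comp _)).symm]
      apply pullback.hom_ext
      · rw [transPt, pullback.lift_fst, D.φ_self, Category.id_comp]
      · rw [transPt, pullback.lift_snd, Category.id_comp])
  -- associativity
  let pb : Qg ⟶ (Functor.const J).obj T := prodBase tE tj
  haveI : ∀ k, IsSeparated (pb.app k) := fun k => by
    haveI : IsSeparated (pullback.fst (tE.app k) (tj.app k)) := MorphismProperty.pullback_fst _ _ inferInstance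
    exact inferInstanceAs (IsSeparated (pullback.fst (tE.app k) (tj.app k) ≫ tE.app k))
  have heQt : ∀ k, eQ.π.app k ≫ pb.app k = f₁ ≫ pE ≫ π := fun k => by
    show eQ.π.app k ≫ pullback.fst (tE.app k) (tj.app k) ≫ tE.app k = _
    rw [← Category.assoc, prodCone_fst, Category.assoc, heEt]
  let Rg : J ⥤ Scheme.{u} := prodSys Qg Dj pb tj
  let eR : Cone Rg := prodCone pb tj eQ cj heQt hjt
  have heR : IsLimit eR := prodIsLimit pb tj eQ cj heQt hjt heQ hcj
  haveI : ∀ k, CompactSpace (Rg.obj k) := fun k => compactSpace_prodSys pb tj k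
  haveI : ∀ k, QuasiSeparatedSpace (Rg.obj k) := fun k => quasiSeparatedSpace_prodSys pb tj k
  haveI : ∀ {k l : J} (f : k ⟶ l), IsAffineHom (Rg.map f) := fun f => isAffineHom_prodSys_map pb tj f
  let tR : Rg ⟶ (Functor.const J).obj X₀ :=
    { app := fun k => pullback.snd (pb.app k) (tj.app k) ≫ a.app k
      naturality := fun k l f => by
        have := a.naturality f
        simp only [Functor.const_obj_map, Category.comp_id, Functor.const_obj_obj] at this ⊢
        rw [← Category.assoc, prodSys_map_snd, Category.assoc, this] }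
  have hθt : θh ≫ tE.app j = pb.app j := by
    show θh ≫ pullback.snd p₀ (a.app j) ≫ tj.app j = pullback.fst (tE.app j) (tj.app j) ≫ tE.app j
    rw [← Category.assoc, pullback.lift_snd]; exact pullback.condition.symm
  let s₁ : Rg.obj j ⟶ Qg.obj j := pullback.lift (pullback.fst (pb.app j) (tj.app j) ≫ θh)
    (pullback.snd _ _) (by rw [Category.assoc, hθt]; exact pullback.condition)
  let s₀ : Rg.obj j ⟶ Qg.obj j :=
    pullback.lift (pullback.fst (pb.app j) (tj.app j) ≫ pullback.fst _ _) (pullback.snd _ _)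
      (by rw [Category.assoc]; exact pullback.condition)
  obtain ⟨k₂, n₂, hk₂⟩ := Scheme.exists_hom_comp_eq_comp_of_locallyOfFiniteType Rg tR p₀ eR heR
    (i := j) (s₁ ≫ θj) (s₀ ≫ θj)
    (by
      show pullback.snd (pb.app j) (tj.app j) ≫ a.app j = (s₁ ≫ θj) ≫ p₀
      rw [Category.assoc, hθjp, pullback.lift_snd_assoc])
    (by
      show pullback.snd (pb.app j) (tj.app j) ≫ a.app j = (s₀ ≫ θj) ≫ p₀
      rw [Category.assoc, hθjp, pullback.lift_snd_assoc])
    (by
      let V := pullback (f₁ ≫ pE ≫ π) π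
      let w₁ : V ⟶ W := pullback.fst (f₁ ≫ pE ≫ π) π
      let z₂ : V ⟶ Z := pullback.snd (f₁ ≫ pE ≫ π) π
      let θZ : W ⟶ pullback D.obj.hom e := transPt D e (f₁ ≫ pE) y₁ hy vW
      have hθZ : θZ ≫ pE = y₁ := pullback.lift_snd _ _ _
      let g₁ : V ⟶ W := pullback.lift (w₁ ≫ θZ) z₂ (by
        rw [Category.assoc, ← Category.assoc θZ, hθZ]
        refine Eq.trans ?_ pullback.condition
        exact congrArg (w₁ ≫ ·) pullback.condition.symm)
      let g₀ : V ⟶ W := pullback.lift (w₁ ≫ f₁) z₂ (by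
        rw [Category.assoc]; exact pullback.condition)
      have e₁ : eR.π.app j ≫ s₁ = g₁ ≫ eQ.π.app j := by
        apply pullback.hom_ext
        · rw [Category.assoc, Category.assoc, pullback.lift_fst, prodCone_fst, pullback.lift_fst_assoc,
            reassoc_of% (prodCone_fst pb tj eQ cj heQt hjt j)]
          show w₁ ≫ eQ.π.app j ≫ θh = (w₁ ≫ θZ) ≫ eE.π.app j
          rw [Category.assoc]
          congr 1
          apply pullback.hom_ext
          · rw [Category.assoc, Category.assoc, pullback.lift_fst, hθj,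
              Descend.pbCone_fst Dj a p₀ cj hat hsq j]
          · rw [Category.assoc, Category.assoc, pullback.lift_snd, prodCone_snd,
              Descend.pbCone_snd Dj a p₀ cj hat hsq j, ← Category.assoc, hθZ]
        · rw [Category.assoc, Category.assoc, pullback.lift_snd, prodCone_snd, prodCone_snd,
            pullback.lift_snd_assoc]
      have e₀ : eR.π.app j ≫ s₀ = g₀ ≫ eQ.π.app j := by
        apply pullback.hom_ext
        · rw [Category.assoc, Category.assoc, pullback.lift_fst, prodCone_fst, pullback.lift_fst_assoc,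
            reassoc_of% (prodCone_fst pb tj eQ cj heQt hjt j), prodCone_fst, Category.assoc]
        · rw [Category.assoc, Category.assoc, pullback.lift_snd, prodCone_snd, prodCone_snd,
            pullback.lift_snd_assoc]
      rw [← Category.assoc, ← Category.assoc, e₁, e₀, Category.assoc, Category.assoc, hθj]
      show g₁ ≫ θZ ≫ q₀ = g₀ ≫ θZ ≫ q₀
      rw [← Category.assoc, ← Category.assoc]
      congr 1
      -- both are translations
      let x₀ : V ⟶ Z := w₁ ≫ f₁ ≫ pE
      let x₁ : V ⟶ Z := w₁ ≫ y₁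
      have h01 : (x₀ ≫ e) ≫ g = (x₁ ≫ e) ≫ g := by
        have := congrArg (w₁ ≫ ·) hy
        simpa only [x₀, x₁, Category.assoc] using this
      have h02 : (x₀ ≫ e) ≫ g = (z₂ ≫ e) ≫ g := by
        have : (x₀ ≫ π) ≫ jT = (z₂ ≫ π) ≫ jT := congrArg (· ≫ jT) (by
          simp only [x₀, Category.assoc]; exact pullback.condition)
        simpa only [Category.assoc, he] using this
      let vV : Desc.Lifts D.obj (x₀ ≫ e) := ⟨w₁ ≫ f₁ ≫ pullback.fst D.obj.hom e, by
        simp only [x₀, pE, Category.assoc, pullback.condition]⟩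
      let v₁ : Desc.Lifts D.obj (x₁ ≫ e) := D.φ (x₀ ≫ e) (x₁ ≫ e) h01 vV
      have hmid : w₁ ≫ θZ = transPt D e x₀ x₁ h01 vV :=
        transPt_comp D e w₁ (f₁ ≫ pE) y₁ hy vW x₀ x₁ rfl rfl h01 vV rfl
      have h12 : (x₁ ≫ e) ≫ g = (z₂ ≫ e) ≫ g := h01.symm.trans h02
      rw [transPt_comp D e g₁ (f₁ ≫ pE) y₁ hy vW x₁ z₂
          ((pullback.lift_fst_assoc _ _ _ _).trans ((Category.assoc _ _ _).trans (congrArg (w₁ ≫ ·) hθZ)))
          (pullback.lift_snd _ _ _) h12 v₁ (by
            show v₁.1 = g₁ ≫ f₁ ≫ pullback.fst D.obj.hom e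
            rw [pullback.lift_fst_assoc, hmid, transPt, pullback.lift_fst]),
        transPt_comp D e g₀ (f₁ ≫ pE) y₁ hy vW x₀ z₂
          ((pullback.lift_fst_assoc _ _ _ _).trans (Category.assoc _ _ _))
          (pullback.lift_snd _ _ _) h02 vV (by
            show vV.1 = g₀ ≫ f₁ ≫ pullback.fst D.obj.hom e
            exact ((pullback.lift_fst_assoc _ _ _ _).trans (Category.assoc _ _ _)).symm)]
      apply pullback.hom_ext
      · rw [transPt, transPt, pullback.lift_fst, pullback.lift_fst]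
        exact congrArg Subtype.val (D.φ_comp _ _ _ h01 h12 vV)
      · rw [transPt, transPt, pullback.lift_snd, pullback.lift_snd])
  obtain ⟨k, m, l₁, l₂, hl₁, hl₂⟩ : ∃ (k : J) (m : k ⟶ j) (l₁ : k ⟶ k₁) (l₂ : k ⟶ k₂),
      l₁ ≫ n₁ = m ∧ l₂ ≫ n₂ = m := by
    obtain ⟨k, l₁, l₂, h⟩ := IsCofiltered.cospan n₁ n₂
    exact ⟨k, l₁ ≫ n₁, l₁, l₂, rfl, h.symm⟩
  have hm₁ : Eg.map m ≫ dg ≫ θj = Eg.map m ≫ pullback.fst p₀ (a.app j) := by
    rw [← hl₁, Eg.map_comp, Category.assoc, Category.assoc, hk₁]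
  have hm₂ : Rg.map m ≫ s₁ ≫ θj = Rg.map m ≫ s₀ ≫ θj := by
    rw [← hl₂, Rg.map_comp, Category.assoc, Category.assoc, hk₂]
  let gX : Dj.obj k ⟶ T := tj.app k
  let Ek : Over (Dj.obj k) := Over.mk (pullback.snd p₀ (a.app k))
  let θk : pullback (Ek.hom ≫ gX) gX ⟶ Ek.left := pullback.lift (Qg.map m ≫ θj)
    (pullback.snd (tE.app k) (tj.app k)) (by
      rw [Category.assoc, hθjp, ← Category.assoc, prodSys_map_snd, Category.assoc]
      exact congrArg (pullback.snd (tE.app k) (tj.app k) ≫ ·) (by simpa using a.naturality m))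
  have hθk : θk ≫ Ek.hom = pullback.snd (Ek.hom ≫ gX) gX := pullback.lift_snd _ _ _
  have hθkh : Qg.map m ≫ θh = θk ≫ Eg.map m := by
    apply pullback.hom_ext
    · rw [Category.assoc, Category.assoc, pullback.lift_fst, Descend.pbMap_fst, pullback.lift_fst]
    · rw [Category.assoc, Category.assoc, pullback.lift_snd, Descend.pbMap_snd, prodSys_map_snd,
        ← Category.assoc θk, pullback.lift_snd]
  have hh₁ : pullback.lift (f := tE.app k) (g := tj.app k) (𝟙 (Eg.obj k)) (pullback.snd p₀ (a.app k))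
      (Category.id_comp _) ≫ θk = 𝟙 (Eg.obj k) := by
    have hd : pullback.lift (f := tE.app k) (g := tj.app k) (𝟙 (Eg.obj k)) (pullback.snd p₀ (a.app k))
        (Category.id_comp _) ≫ Qg.map m = Eg.map m ≫ dg := by
      apply pullback.hom_ext
      · refine (Category.assoc _ _ _).trans ((congrArg _ (prodSys_map_fst tE tj m)).trans ?_)
        refine (pullback.lift_fst_assoc _ _ _ _).trans ((Category.id_comp _).trans ?_)
        exact ((Category.assoc _ _ _).trans ((congrArg _ (pullback.lift_fst _ _ _)).trans (Category.comp_id _))).symm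
      · refine (Category.assoc _ _ _).trans ((congrArg _ (prodSys_map_snd tE tj m)).trans ?_)
        refine (pullback.lift_snd_assoc _ _ _ _).trans ?_
        exact ((Category.assoc _ _ _).trans ((congrArg _ (pullback.lift_snd _ _ _)).trans
          (Descend.pbMap_snd Dj a p₀ m))).symm
    apply pullback.hom_ext
    · refine (Category.assoc _ _ _).trans ((congrArg _ (pullback.lift_fst _ _ _)).trans ?_)
      refine (Category.assoc _ _ _).symm.trans ((congrArg (· ≫ θj) hd).trans ((Category.assoc _ _ _).trans ?_))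
      exact hm₁.trans ((Descend.pbMap_fst Dj a p₀ m).trans (Category.id_comp _).symm)
    · refine (Category.assoc _ _ _).trans ((congrArg _ (pullback.lift_snd _ _ _)).trans ?_)
      exact (pullback.lift_snd _ _ _).trans (Category.id_comp _).symm
  let θk' : Qg.obj k ⟶ Eg.obj k := θk
  let s₁k : Rg.obj k ⟶ Qg.obj k := pullback.lift (pullback.fst (pb.app k) (tj.app k) ≫ θk')
    (pullback.snd _ _) (by
      have : θk' ≫ tE.app k = pb.app k :=
        (Category.assoc _ _ _).symm.trans ((congrArg (· ≫ tj.app k) (pullback.lift_snd _ _ _)).trans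
          pullback.condition.symm)
      exact (Category.assoc _ _ _).trans ((congrArg _ this).trans pullback.condition))
  let s₀k : Rg.obj k ⟶ Qg.obj k :=
    pullback.lift (pullback.fst (pb.app k) (tj.app k) ≫ pullback.fst _ _) (pullback.snd _ _)
      ((Category.assoc _ _ _).trans pullback.condition)
  have hs₁ : s₁k ≫ Qg.map m = Rg.map m ≫ s₁ := by
    apply pullback.hom_ext
    · refine (Category.assoc _ _ _).trans ((congrArg _ (prodSys_map_fst tE tj m)).trans ?_)
      refine (pullback.lift_fst_assoc _ _ _ _).trans ?_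
      refine ((Category.assoc _ _ _).trans (congrArg _ hθkh.symm)).trans ?_
      refine Eq.trans ?_ ((Category.assoc _ _ _).trans (congrArg _ (pullback.lift_fst _ _ _))).symm
      exact (Category.assoc _ _ _).symm.trans ((congrArg (· ≫ θh) (prodSys_map_fst pb tj m).symm).trans (Category.assoc _ _ _))
    · refine (Category.assoc _ _ _).trans ((congrArg _ (prodSys_map_snd tE tj m)).trans ?_)
      refine (pullback.lift_snd_assoc _ _ _ _).trans ?_
      exact ((Category.assoc _ _ _).trans ((congrArg _ (pullback.lift_snd _ _ _)).trans (prodSys_map_snd pb tj m))).symm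
  have hs₀ : s₀k ≫ Qg.map m = Rg.map m ≫ s₀ := by
    apply pullback.hom_ext
    · refine (Category.assoc _ _ _).trans ((congrArg _ (prodSys_map_fst tE tj m)).trans ?_)
      refine (pullback.lift_fst_assoc _ _ _ _).trans ?_
      refine ((Category.assoc _ _ _).trans (congrArg _ (prodSys_map_fst tE tj m).symm)).trans ?_
      refine Eq.trans ?_ ((Category.assoc _ _ _).trans (congrArg _ (pullback.lift_fst _ _ _))).symm
      exact (Category.assoc _ _ _).symm.trans ((congrArg (· ≫ _) (prodSys_map_fst pb tj m).symm).trans (Category.assoc _ _ _))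
    · refine (Category.assoc _ _ _).trans ((congrArg _ (prodSys_map_snd tE tj m)).trans ?_)
      refine (pullback.lift_snd_assoc _ _ _ _).trans ?_
      exact ((Category.assoc _ _ _).trans ((congrArg _ (pullback.lift_snd _ _ _)).trans (prodSys_map_snd pb tj m))).symm
  have hh₂ : s₁k ≫ θk' = s₀k ≫ θk' := by
    have hf : θk' ≫ pullback.fst p₀ (a.app k) = Qg.map m ≫ θj := pullback.lift_fst _ _ _
    have hg : θk' ≫ pullback.snd p₀ (a.app k) = pullback.snd (tE.app k) (tj.app k) := pullback.lift_snd _ _ _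
    apply pullback.hom_ext
    · refine ((Category.assoc _ _ _).trans (congrArg _ hf)).trans ?_
      refine Eq.trans ?_ ((Category.assoc _ _ _).trans (congrArg _ hf)).symm
      refine ((Category.assoc _ _ _).symm.trans ((congrArg (· ≫ θj) hs₁).trans (Category.assoc _ _ _))).trans ?_
      exact hm₂.trans ((Category.assoc _ _ _).symm.trans ((congrArg (· ≫ θj) hs₀.symm).trans (Category.assoc _ _ _)))
    · refine ((Category.assoc _ _ _).trans (congrArg _ hg)).trans ?_
      refine Eq.trans ?_ ((Category.assoc _ _ _).trans (congrArg _ hg)).symm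
      exact (pullback.lift_snd _ _ _).trans (pullback.lift_snd _ _ _).symm
  let F : Desc.SchDD gX := dataOfIso θk hθk hh₁ hh₂
  haveI : IsSeparated (pullback.snd p₀ (a.app k)) := MorphismProperty.pullback_snd _ _ ‹IsSeparated p₀›
  haveI : Etale (pullback.snd p₀ (a.app k)) := MorphismProperty.pullback_snd _ _ ‹Etale p₀›
  haveI : QuasiCompact (pullback.snd p₀ (a.app k)) := MorphismProperty.pullback_snd _ _ ‹QuasiCompact p₀›
  refine ⟨Dj.obj k, cj.π.app k, gX, F, eE.π.app k, hjt k, inferInstanceAs (LocallyOfFinitePresentation (t.app k.left)),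
    inferInstance, inferInstance, inferInstanceAs (IsSeparated (pullback.snd p₀ (a.app k))),
    inferInstanceAs (Etale (pullback.snd p₀ (a.app k))), inferInstanceAs (QuasiCompact (pullback.snd p₀ (a.app k))),
    Descend.pbCone_isPullback Dj a p₀ cj hat hsq k, ?_⟩
  intro T' z₀ z₁ h hX v w hwv
  refine (dataOfIso_φ θk hθk _ _ _ _ hX w).trans ?_
  have hzz : (pullback.lift v.1 z₀ v.2 ≫ pE) ≫ π = z₁ ≫ π := by
    rw [pullback.lift_snd, ← hjt k, ← Category.assoc, ← Category.assoc]
    exact hX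
  let mm : T' ⟶ W := pullback.lift (pullback.lift v.1 z₀ v.2) z₁ ((Category.assoc _ _ _).symm.trans hzz)
  have hmm : pullback.lift (f := Ek.hom ≫ gX) (g := gX) w.1 (z₁ ≫ cj.π.app k)
      ((Category.assoc _ _ _).symm.trans ((congrArg (· ≫ gX) w.2).trans hX)) = mm ≫ eQ.π.app k := by
    apply pullback.hom_ext
    · rw [pullback.lift_fst, Category.assoc]
      exact hwv.trans (((congrArg (mm ≫ ·) (prodCone_fst tE tj eE cj heEt hjt k)).trans
        (pullback.lift_fst_assoc _ _ _ _)).symm)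
    · rw [pullback.lift_snd, Category.assoc]
      exact ((congrArg (mm ≫ ·) (prodCone_snd tE tj eE cj heEt hjt k)).trans
        (pullback.lift_snd_assoc _ _ _ _)).symm
  erw [hmm]
  have htr : mm ≫ transPt D e (f₁ ≫ pE) y₁ hy vW = transPt D e z₀ z₁ h v :=
    transPt_comp D e mm (f₁ ≫ pE) y₁ hy vW z₀ z₁
      ((pullback.lift_fst_assoc _ _ _ _).trans (pullback.lift_snd _ _ _)) (pullback.lift_snd _ _ _) h v
      ((pullback.lift_fst_assoc _ _ _ _).trans (pullback.lift_fst _ _ _)).symm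
  have hQ : eQ.π.app k ≫ θk = transPt D e (f₁ ≫ pE) y₁ hy vW ≫ eE.π.app k := by
    apply pullback.hom_ext
    · rw [Category.assoc, Category.assoc, pullback.lift_fst, Descend.pbCone_fst Dj a p₀ cj hat hsq k,
        ← Category.assoc, eQ.w, hθj]
    · rw [Category.assoc, Category.assoc, pullback.lift_snd, Descend.pbCone_snd Dj a p₀ cj hat hsq k,
        prodCone_snd]
      exact (congrArg (· ≫ cj.π.app k) (pullback.lift_snd _ _ _)).symm.trans (Category.assoc _ _ _)
  rw [Category.assoc, hQ, ← Category.assoc, htr]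

end Groth.Agent.EtEff25
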