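import Groth.Agent.Lib.EtEff25.Local
import Groth.Agent.Lib.SchDesc12.Descend
import Groth.Agent.Lib.SchDesc12.Effective

/-!
# Representations over schemes lifting étale locally to the source
-/

set_option autoImplicit false
set_option linter.style.haveILetI false
set_option backward.isDefEq.respectTransparency false
set_option backward.isDefEq.respectTransparency.types false
universe u

open CategoryTheory CategoryTheory.Limits AlgebraicGeometry

namespace Groth.Agent.EtEff25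

open Groth.Agent.SchDesc12

variable {S S' : Scheme.{u}} {g : S' ⟶ S}

/-- Two representations over the same base are isomorphic. -/
theorem exists_rep_iso {D : Desc.SchDDFam (fun _ : PUnit.{u + 1} => g)} {Z : Scheme.{u}} {p : Z ⟶ S}
    (R R' : Rep D p) : ∃ e : R.U ≅ R'.U, e.hom ≫ R'.π = R.π := by
  obtain ⟨b, hb, hbv⟩ := R'.exists_lift R.π R.univ
  obtain ⟨b', hb', hbv'⟩ := R.exists_lift R'.π R'.univ
  have key : ∀ (R₁ R₂ : Rep D p) (c : R₁.U ⟶ R₂.U) (c' : R₂.U ⟶ R₁.U) (_ : c ≫ R₂.π = R₁.π)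
      (_ : c' ≫ R₁.π = R₂.π)
      (_ : ∀ ⦃T : Scheme.{u}⦄ (i : PUnit.{u + 1}) (a : T ⟶ R₁.U) (x : T ⟶ S')
        (e : a ≫ R₁.π ≫ p = x ≫ g) (e' : (a ≫ c) ≫ R₂.π ≫ p = x ≫ g),
        (R₂.univ.eval (i := i) (a ≫ c) x e').1 = (R₁.univ.eval (i := i) a x e).1)
      (_ : ∀ ⦃T : Scheme.{u}⦄ (i : PUnit.{u + 1}) (a : T ⟶ R₂.U) (x : T ⟶ S')
        (e : a ≫ R₂.π ≫ p = x ≫ g) (e' : (a ≫ c') ≫ R₁.π ≫ p = x ≫ g),
        (R₁.univ.eval (i := i) (a ≫ c') x e').1 = (R₂.univ.eval (i := i) a x e).1),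
      c ≫ c' = 𝟙 R₁.U := by
    intro R₁ R₂ c c' hc hc' hv hv'
    refine R₁.hom_ext _ _ (by rw [Category.assoc, hc', hc, Category.id_comp]) fun T i a x e e' => ?_
    have e₀ : a ≫ R₁.π ≫ p = x ≫ g := by rw [← e']; simp
    have e₁ : (a ≫ c) ≫ R₂.π ≫ p = x ≫ g := by rw [Category.assoc, reassoc_of% hc, e₀]
    have e₂ : ((a ≫ c) ≫ c') ≫ R₁.π ≫ p = x ≫ g := by rw [← e]; simp
    refine (Sec.eval_congr R₁.univ (Category.assoc _ _ _).symm rfl e e₂).trans ?_
    refine (hv' i (a ≫ c) x e₁ e₂).trans ((hv i a x e₀ e₁).trans ?_)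
    exact Sec.eval_congr R₁.univ (Category.comp_id a).symm rfl e₀ e'
  exact ⟨⟨b, b', key R R' b b' hb hb' hbv hbv', key R' R b' b hb' hb hbv' hbv⟩, hb⟩

theorem univSubmersive_of_etale {X Y : Scheme.{u}} (f : X ⟶ Y) [Etale f] [Surjective f] :
    SGA1.UnivSubmersive f :=
  univSubmersive_of_universallyOpen f

theorem descends_separated {X Y : Scheme.{u}} {π : X ⟶ Y} (hπ : SGA1.UnivSubmersive π) {U : Scheme.{u}}
    (r : U ⟶ Y) (h : IsSeparated (pullback.fst π r)) : IsSeparated r :=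
  MorphismProperty.of_pullback_fst_of_descendsAlong (P := @IsSeparated) hπ h

variable (D : Desc.SchDD g) [IsSeparated D.obj.hom] [Etale D.obj.hom]

/-- Descended sections are representable over a scheme lifting to the source étale locally. -/
theorem exists_rep_of_etale_lift {X' Y' : Scheme.{u}} (π : X' ⟶ Y') [Etale π] [Surjective π] [QuasiCompact π]
    (q : Y' ⟶ S) (e : X' ⟶ S') (h : π ≫ q = e ≫ g) :
    ∃ R : Rep (famU D) q, Etale R.π ∧ IsSeparated R.π := by
  let R₀ : Rep (famU D) (π ≫ q) := Rep.ofMember (famU D) PUnit.unit e h.symm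
  haveI h₁ : Etale R₀.π := inferInstanceAs (Etale (pullback.snd D.obj.hom e))
  haveI h₂ : IsSeparated R₀.π := inferInstanceAs (IsSeparated (pullback.snd D.obj.hom e))
  let E : Desc.SchDD π := (Desc.SchDDFam.toSchDD.{u} π).obj (repDatum π R₀)
  haveI : Etale E.obj.hom := h₁
  haveI : IsSeparated E.obj.hom := h₂
  obtain ⟨U, -, -, -, ⟨i⟩⟩ := exists_effective (univSubmersive_of_etale π) E fun x => by
    haveI : Etale (E.obj.hom ≫ π) := inferInstance
    refine ⟨E.obj.left, E.obj.hom ≫ π, inferInstance,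
      ofLift (famU E) (i := PUnit.unit) (x := E.obj.hom) ⟨𝟙 _, Category.id_comp _⟩, ?_⟩
    let σ := ofLift (famU E) (i := PUnit.unit) (x := E.obj.hom) ⟨𝟙 _, Category.id_comp _⟩
    refine ⟨pullback.lift (𝟙 _) E.obj.hom (Category.id_comp _) x, ?_⟩
    rw [← Scheme.Hom.comp_apply]
    have hv : (σ.eval (i := PUnit.unit) (𝟙 _) E.obj.hom (Category.id_comp _)).1 = 𝟙 E.obj.left := by
      rw [eval_ofLift]
      have hh : ∀ (y : E.obj.left ⟶ X') (e₁ : y ≫ π = E.obj.hom ≫ π) (w : Desc.Lifts E.obj y),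
          y = E.obj.hom → (E.φ y E.obj.hom e₁ w).1 = w.1 := by
        rintro y e₁ w rfl
        rw [E.φ_self]
      exact (hh _ _ _ (Category.id_comp _)).trans (Category.id_comp _)
    show (σ.eval (i := PUnit.unit) (𝟙 _) E.obj.hom (Category.id_comp _)).1 x = x
    rw [hv]
    rfl
  have hE : (repDatum π R₀).IsEffective := ⟨U, ⟨(Desc.SchDDFam.ofSchDD.{u} π).mapIso i⟩⟩
  obtain ⟨R⟩ := nonempty_rep_descend π R₀ (single_mem_fpqc π) hE
  obtain ⟨c, hc⟩ := exists_rep_iso (R.baseChange π (g' := π ≫ q) rfl) R₀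
  have hs : Etale (pullback.snd R.π π) := by
    rw [show pullback.snd R.π π = c.hom ≫ R₀.π from hc.symm]; infer_instance
  have hs' : IsSeparated (pullback.snd R.π π) := by
    rw [show pullback.snd R.π π = c.hom ≫ R₀.π from hc.symm]; infer_instance
  have hf : IsSeparated (pullback.fst π R.π) := by
    rw [← pullbackSymmetry_hom_comp_snd]; infer_instance
  haveI : Surjective (pullback.fst R.π π) := MorphismProperty.pullback_fst _ _ ‹Surjective π›
  haveI : Etale (pullback.fst R.π π) := inferInstance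
  refine ⟨R, ?_, descends_separated (univSubmersive_of_etale π) R.π hf⟩
  exact AlgSpDescent.descendsEtaleSource_etale (pullback.fst R.π π) R.π inferInstance inferInstance
    (by rw [pullback.condition]; infer_instance)

variable {D}

/-- A datum along a morphism refined over each affine open by coverings and proper maps is effective. -/
theorem exists_effective_of_refinement (hg : SGA1.UnivSubmersive g)
    (href : ∀ s : S, ∃ (T X' Y' : Scheme.{u}) (jT : T ⟶ S) (p : X' ⟶ Y') (q : Y' ⟶ T) (e : X' ⟶ S'),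
      Etale jT ∧ s ∈ Set.range jT ∧ Etale p ∧ Surjective p ∧ QuasiCompact p ∧ IsProper q ∧ Surjective q ∧
        p ≫ q ≫ jT = e ≫ g) :
    ∃ U : Over S, IsSeparated U.hom ∧ Etale U.hom ∧
      (QuasiCompact D.obj.hom → QuasiCompact g → QuasiCompact U.hom) ∧
      Nonempty ((Desc.toDD g).obj U ≅ D) := by
  refine exists_effective hg D fun x => ?_
  obtain ⟨T, X', Y', jT, p, q, e, _, hs, _, _, _, _, _, he⟩ := href (g (D.obj.hom x))
  obtain ⟨R, _, _⟩ := exists_rep_of_etale_lift D p (q ≫ jT) e he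
  exact hasSectionAt_of_rep D hg jT q (hensLift_of_proper q) R x hs

end Groth.Agent.EtEff25
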