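import Groth.Agent.Lib.EtEff25.Main
import Groth.Agent.Lib.EffDesc25.Base
import Groth.Agent.Lib.EffDesc25.Props

/-!
# Effectivity from pointwise étale local sections
-/

set_option autoImplicit false
set_option linter.style.haveILetI false
set_option backward.isDefEq.respectTransparency false
set_option backward.isDefEq.respectTransparency.types false
universe u

open CategoryTheory CategoryTheory.Limits AlgebraicGeometry

namespace Groth.Agent.EtEff25

open Groth.Agent.SchDesc12

variable {S S' : Scheme.{u}} {g : S' ⟶ S}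

/-- The datum with a one-point index type in the universe of the schemes. -/
noncomputable abbrev famU (D : Desc.SchDD g) : Desc.SchDDFam (fun _ : PUnit.{u + 1} => g) :=
  EffDesc25.toU ((Desc.SchDDFam.ofSchDD.{0} g).obj D)

/-- The point lies on the values of a section over some étale scheme over the base. -/
def HasSectionAt (D : Desc.SchDD g) (x : D.obj.left) : Prop :=
  ∃ (W : Scheme.{u}) (w : W ⟶ S) (_ : Etale w) (σ : Sec (famU D) w),
    x ∈ Set.range (σ.val PUnit.unit)

theorem exists_global_section (D : Desc.SchDD g) (h : ∀ x, HasSectionAt D x) :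
    ∃ (W : Scheme.{u}) (w : W ⟶ S) (_ : Etale w) (σ : Sec (famU D) w),
      Surjective (σ.val PUnit.unit) := by
  choose W w hw σ hx using h
  let t : (∐ W) ⟶ S := Sigma.desc w
  haveI : Etale t := IsZariskiLocalAtSource.sigmaDesc hw
  have hcov : Presieve.ofArrows W (Sigma.ι W) ∈ Scheme.fpqcPrecoverage (∐ W) :=
    Scheme.zariskiPrecoverage_le_fpqcPrecoverage _ (sigmaOpenCover W).mem₀
  obtain ⟨τ, hτ⟩ := Sec.exists_glue (t := t) (Sigma.ι W) hcov (fun x => Sigma.ι_desc _ _) σ (by
    intro k l Z a b hab i y e e'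
    by_cases hkl : k = l
    · subst hkl
      exact Sec.eval_congr (σ k) ((cancel_mono (Sigma.ι W k)).1 hab) rfl _ _
    · haveI := isEmpty_pullback_sigmaι_of_ne W hkl
      haveI : IsEmpty Z := ⟨fun z => IsEmpty.false (pullback.lift a b hab z)⟩
      exact isInitialOfIsEmpty.hom_ext _ _)
  refine ⟨_, t, inferInstance, τ, ⟨fun x => ?_⟩⟩
  obtain ⟨z, hz⟩ := hx x
  have e : (pullback.fst (w x) g ≫ Sigma.ι W x) ≫ t = pullback.snd (w x) g ≫ g := by
    rw [Category.assoc, Sigma.ι_desc, pullback.condition]
  have h := hτ x PUnit.unit (pullback.fst (w x) g) (pullback.snd (w x) g) e pullback.condition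
  rw [← Sec.val_eq_eval] at h
  refine ⟨pullback.lift _ _ e z, ?_⟩
  rw [← Scheme.Hom.comp_apply]
  have h' : pullback.lift _ _ e ≫ τ.val PUnit.unit = (σ x).val PUnit.unit := h
  rw [h']
  exact hz

/-- A separated étale datum with pointwise étale local sections is effective. -/
theorem exists_effective (hg : SGA1.UnivSubmersive g) (D : Desc.SchDD g) [IsSeparated D.obj.hom]
    [Etale D.obj.hom] (h : ∀ x, HasSectionAt D x) :
    ∃ U : Over S, IsSeparated U.hom ∧ Etale U.hom ∧
      (QuasiCompact D.obj.hom → QuasiCompact g → QuasiCompact U.hom) ∧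
      Nonempty ((Desc.toDD g).obj U ≅ D) := by
  haveI : Etale ((famU D).obj PUnit.unit).hom := ‹_›
  haveI : IsSeparated ((famU D).obj PUnit.unit).hom := ‹_›
  obtain ⟨W, w, hw, σ, hσ⟩ := exists_global_section D h
  obtain ⟨R, hR⟩ := exists_rep σ hg
  obtain ⟨e⟩ := EffDesc25.nonempty_iso_of_rep R
  let e' : (Desc.toDD g).obj (Over.mk R.π) ≅ D := (Desc.SchDDFam.toSchDD.{0} g).mapIso e
  let i : D.obj ≅ Over.mk (pullback.fst g R.π) :=
    { hom := e'.inv.hom
      inv := e'.hom.hom
      hom_inv_id := congrArg (fun b : D ⟶ D => b.hom) e'.inv_hom_id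
      inv_hom_id := congrArg
        (fun b : (Desc.toDD g).obj (Over.mk R.π) ⟶ (Desc.toDD g).obj (Over.mk R.π) => b.hom)
        e'.hom_inv_id }
  haveI : IsIso i.inv.left := inferInstanceAs (IsIso ((Over.forget _).mapIso i).inv)
  have hh : pullback.fst g R.π = i.inv.left ≫ D.obj.hom := (Over.w i.inv).symm
  have h₁ : IsSeparated (pullback.fst g R.π) := by
    rw [hh]; infer_instance
  refine ⟨Over.mk R.π, MorphismProperty.of_pullback_fst_of_descendsAlong (P := @IsSeparated) hg h₁, hR,
    fun hq hgq => ?_, ⟨e'⟩⟩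
  haveI := hgq
  haveI : Surjective g := surjective_of_univSubmersive hg
  haveI : Surjective (pullback.snd g R.π) := MorphismProperty.pullback_snd _ _ ‹_›
  haveI : QuasiCompact (pullback.snd g R.π ≫ R.π) := by
    rw [← pullback.condition, hh]; infer_instance
  exact EffDesc25.quasiCompact_of_surjective_comp (pullback.snd g R.π) R.π

end Groth.Agent.EtEff25
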