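import Groth.Agent.Lib.Hens.ClopenLift
import Groth.Agent.S0385
import Groth.Agent.Lib.EtStalk.FiniteSplit
import Mathlib.AlgebraicGeometry.Morphisms.FlatMono

/-!
# Sections of separated étale schemes extend from a henselian closed part
-/

set_option autoImplicit false
set_option linter.style.haveILetI false
set_option backward.isDefEq.respectTransparency.types false
universe u

open CategoryTheory CategoryTheory.Limits AlgebraicGeometry Topology

namespace Groth.Agent.EtEff25

open Groth.Agent.Hens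

/-- Clopens of every finite scheme over `Z` lift uniquely from the part over `i`. -/
def FiniteClopenLift {Z Z₀ : Scheme.{u}} (i : Z₀ ⟶ Z) : Prop :=
  ∀ (W : Scheme.{u}) (π : W ⟶ Z), IsFinite π →
    ClopenLift (Subtype.val : (π ⁻¹' Set.range i : Set W) → W)

variable {Z Z₀ : Scheme.{u}} {i : Z₀ ⟶ Z}

theorem FiniteClopenLift.eq_univ (h : FiniteClopenLift i) {W : Scheme.{u}} (π : W ⟶ Z) [IsFinite π]
    {U : Set W} (hU : IsClopen U) (hsub : π ⁻¹' Set.range i ⊆ U) : U = Set.univ := by
  obtain ⟨_, -, hu⟩ := h W π ‹_› Set.univ isClopen_univ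
  exact (hu U ⟨hU, Set.eq_univ_of_forall fun x => hsub x.2⟩).trans
    (hu Set.univ ⟨isClopen_univ, rfl⟩).symm

theorem epi_isIso {X Y : Scheme.{u}} (f : X ⟶ Y) [IsOpenImmersion f] [Surjective f] : IsIso f := by
  haveI : Epi f.base := (TopCat.epi_iff_surjective f.base).2 f.surjective
  exact IsOpenImmersion.isIso f

/-- A closed subset missing the special part is empty. -/
theorem FiniteClopenLift.eq_empty (h : FiniteClopenLift i) {W : Scheme.{u}} (π : W ⟶ Z) [IsFinite π]
    {C : Set W} (hC : IsClosed C) (hd : ∀ x ∈ C, π x ∉ Set.range i) : C = ∅ := by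
  let J := Scheme.IdealSheafData.vanishingIdeal (⟨C, hC⟩ : TopologicalSpace.Closeds W)
  have hr : Set.range J.subschemeι = C := by
    rw [Scheme.IdealSheafData.range_subschemeι, Scheme.IdealSheafData.coe_support_vanishingIdeal]
    rfl
  haveI : IsFinite (J.subschemeι ≫ π) := inferInstance
  have he : (∅ : Set J.subscheme) = Set.univ := h.eq_univ (J.subschemeι ≫ π) isClopen_empty fun x hx => by
    rw [Set.mem_preimage, Scheme.Hom.comp_apply] at hx
    exact hd _ (hr ▸ ⟨x, rfl⟩) hx
  refine Set.eq_empty_iff_forall_notMem.2 fun x hx => ?_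
  obtain ⟨y, -⟩ := hr.ge hx
  exact Set.eq_empty_iff_forall_notMem.1 he.symm y trivial

set_option maxHeartbeats 1000000 in
/-- Sections over the special part of a separated étale scheme extend. -/
theorem exists_section_extension [CompactSpace Z] [QuasiSeparatedSpace Z] [IsClosedImmersion i]
    (h : FiniteClopenLift i) {X : Scheme.{u}} (p : X ⟶ Z) [Etale p] [IsSeparated p]
    (s : Z₀ ⟶ X) (hs : s ≫ p = i) : ∃ t : Z ⟶ X, t ≫ p = 𝟙 Z ∧ i ≫ t = s := by
  haveI : CompactSpace Z₀ := QuasiCompact.compactSpace_of_compactSpace i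
  -- a quasi-compact open around the section
  obtain ⟨V, hVc, hV⟩ : ∃ V : X.Opens, IsCompact (V : Set X) ∧ Set.range s ⊆ V := by
    obtain ⟨K, hKc, hKo, hsK, -⟩ := PrespectralSpace.exists_isCompact_and_isOpen_between
      (isCompact_range s.continuous) isOpen_univ (Set.subset_univ _)
    exact ⟨⟨K, hKo⟩, hKc, hsK⟩
  haveI : CompactSpace V.toScheme := isCompact_iff_compactSpace.1 hVc
  let s₁ : Z₀ ⟶ V.toScheme := IsOpenImmersion.lift V.ι s (by rw [Scheme.Opens.range_ι]; exact hV)
  have hs₁ : s₁ ≫ V.ι = s := IsOpenImmersion.lift_fac _ _ _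
  let p₁ : V.toScheme ⟶ Z := V.ι ≫ p
  haveI : Etale p₁ := inferInstanceAs (Etale (V.ι ≫ p))
  haveI : IsSeparated p₁ := inferInstanceAs (IsSeparated (V.ι ≫ p))
  haveI : QuasiCompact p₁ := inferInstance
  haveI : LocallyQuasiFinite p₁ := FiniteSplit.locallyQuasiFinite_of_etale p₁
  have hsp : s₁ ≫ p₁ = i := by rw [← Category.assoc, hs₁, hs]
  obtain ⟨T, j, π, _, _, _, hjπ⟩ := Groth.Agent.S0385.result p₁
  -- the section is clopen in the special part
  have hi' : (s₁ ≫ j) ≫ π = i := by rw [Category.assoc, hjπ, hsp]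
  haveI : IsClosedImmersion ((s₁ ≫ j) ≫ π) := by rw [hi']; infer_instance
  haveI : IsClosedImmersion (s₁ ≫ j) := IsClosedImmersion.of_comp (s₁ ≫ j) π
  let σ : Z₀ ⟶ pullback p₁ i := pullback.lift s₁ (𝟙 Z₀) (by rw [hsp, Category.id_comp])
  haveI : Etale (σ ≫ pullback.snd p₁ i) := by
    rw [pullback.lift_snd]; infer_instance
  haveI : Etale σ := Etale.of_comp σ (pullback.snd p₁ i)
  have hσo : IsOpen (Set.range σ) := σ.isOpenMap.isOpen_range
  let P : Set T := π ⁻¹' Set.range i
  let R : Set P := Subtype.val ⁻¹' Set.range (s₁ ≫ j)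
  have hRc : IsClosed R := (s₁ ≫ j).isClosedEmbedding.isClosed_range.preimage continuous_subtype_val
  have hRo : IsOpen R := by
    obtain ⟨O, hO, hOσ⟩ := (pullback.fst p₁ i).isClosedEmbedding.isInducing.isOpen_iff.1 hσo
    refine ⟨j '' O, j.isOpenEmbedding.isOpenMap _ hO, ?_⟩
    ext ⟨x, hx⟩
    constructor
    · rintro ⟨y, hyO, rfl⟩
      obtain ⟨z, hz⟩ : y ∈ Set.range (pullback.fst p₁ i) := by
        rw [Scheme.Pullback.range_fst]
        have : π (j y) ∈ Set.range i := hx
        rwa [← Scheme.Hom.comp_apply, hjπ] at this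
      obtain ⟨z₀, hz₀⟩ : z ∈ Set.range σ := hOσ.le (show pullback.fst p₁ i z ∈ O by rwa [hz])
      refine ⟨z₀, ?_⟩
      show (s₁ ≫ j) z₀ = j y
      rw [Scheme.Hom.comp_apply, ← hz, ← hz₀, ← Scheme.Hom.comp_apply σ, pullback.lift_fst]
    · rintro ⟨z₀, hz₀⟩
      refine ⟨s₁ z₀, ?_, hz₀⟩
      have hh := hOσ.ge (Set.mem_range_self z₀)
      rw [Set.mem_preimage, ← Scheme.Hom.comp_apply, pullback.lift_fst] at hh
      exact hh
  obtain ⟨W, ⟨hW, hWR⟩, -⟩ := h T π ‹_› R ⟨hRc, hRo⟩
  have hWj : W ⊆ Set.range j := by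
    refine fun x hx => by_contra fun hn => ?_
    have he := h.eq_empty π (hW.1.inter j.isOpenEmbedding.isOpen_range.isClosed_compl)
      fun y hy hy' => by
        have hy2 : (⟨y, hy'⟩ : P) ∈ R := hWR.le hy.1
        obtain ⟨z, hz⟩ := hy2
        exact hy.2 ⟨s₁ z, hz⟩
    exact Set.eq_empty_iff_forall_notMem.1 he x ⟨hx, hn⟩
  -- the finite étale piece
  let U : V.toScheme.Opens := j ⁻¹ᵁ ⟨W, hW.2⟩
  let WO : T.Opens := ⟨W, hW.2⟩
  haveI : IsClosedImmersion WO.ι :=
    IsClosedImmersion.of_isPreimmersion _ (by rw [Scheme.Opens.range_ι]; exact hW.1)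
  have hUr : Set.range (U.ι ≫ j) = W := by
    rw [Scheme.Hom.comp_base, TopCat.coe_comp, Set.range_comp, Scheme.Opens.range_ι]
    exact Set.image_preimage_eq_of_subset hWj
  haveI : IsClosedImmersion (U.ι ≫ j) :=
    IsClosedImmersion.of_isPreimmersion _ (by rw [hUr]; exact hW.1)
  let q : U.toScheme ⟶ Z := U.ι ≫ p₁
  haveI : Etale q := inferInstanceAs (Etale (U.ι ≫ p₁))
  haveI : IsFinite q := by
    have : q = (U.ι ≫ j) ≫ π := by rw [Category.assoc, hjπ]
    rw [this]; infer_instance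
  have hs₁U : Set.range s₁ ⊆ U := by
    rintro _ ⟨z, rfl⟩
    have hz : π ((s₁ ≫ j) z) ∈ Set.range i := by
      rw [← Scheme.Hom.comp_apply, hi']; exact ⟨z, rfl⟩
    exact hWR.ge (show (⟨(s₁ ≫ j) z, hz⟩ : P) ∈ R from ⟨z, rfl⟩)
  let c : Z₀ ⟶ U.toScheme := IsOpenImmersion.lift U.ι s₁ (by rw [Scheme.Opens.range_ι]; exact hs₁U)
  have hc : c ≫ U.ι = s₁ := IsOpenImmersion.lift_fac _ _ _
  have hcq : c ≫ q = i := by rw [← Category.assoc, hc, hsp]
  have hspec : ∀ y : U.toScheme, q y ∈ Set.range i → y ∈ Set.range c := by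
    intro y hy
    have hy2 : π ((U.ι ≫ j) y) ∈ Set.range i := by
      rw [← Scheme.Hom.comp_apply, Category.assoc, hjπ]; exact hy
    obtain ⟨z, hz⟩ : (⟨(U.ι ≫ j) y, hy2⟩ : P) ∈ R := hWR.le (show (U.ι ≫ j) y ∈ W from hUr.le ⟨y, rfl⟩)
    refine ⟨z, (U.ι ≫ j).isClosedEmbedding.injective ?_⟩
    rw [← Scheme.Hom.comp_apply c, ← Category.assoc, hc]
    exact hz
  let c₀ : Z₀ ⟶ pullback q i := pullback.lift c (𝟙 Z₀) (by rw [hcq, Category.id_comp])
  haveI : IsClosedImmersion (pullback.fst q i) := inferInstance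
  haveI : Surjective c₀ := ⟨fun y => by
    obtain ⟨z, hz⟩ := hspec (pullback.fst q i y) (by
      rw [← Scheme.Hom.comp_apply, pullback.condition, Scheme.Hom.comp_apply]; exact ⟨_, rfl⟩)
    refine ⟨z, (pullback.fst q i).isClosedEmbedding.injective ?_⟩
    rw [← Scheme.Hom.comp_apply c₀, pullback.lift_fst, hz]⟩
  haveI : Etale (c₀ ≫ pullback.snd q i) := by rw [pullback.lift_snd]; infer_instance
  haveI : Etale c₀ := Etale.of_comp c₀ (pullback.snd q i)
  haveI : Mono c₀ := (IsSplitMono.mk' ⟨pullback.snd q i, pullback.lift_snd _ _ _⟩).mono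
  haveI : IsOpenImmersion c₀ := IsOpenImmersion.of_flat_of_mono c₀
  haveI : IsIso c₀ := epi_isIso c₀
  haveI : IsIso (pullback.snd q i) := by
    have : pullback.snd q i = inv c₀ := by
      rw [IsIso.eq_inv_of_hom_inv_id (pullback.lift_snd _ _ _ : c₀ ≫ pullback.snd q i = 𝟙 _)]
    rw [this]; infer_instance
  -- it is a monomorphism
  have hmono : Mono q := by
    rw [← pullback.isIso_diagonal_iff]
    haveI : IsOpenImmersion (pullback.diagonal q) := inferInstance
    have hd : Set.range (pullback.diagonal q) = Set.univ := by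
      refine h.eq_univ (pullback.fst q q ≫ q) ⟨(pullback.diagonal q).isClosedEmbedding.isClosed_range,
        (pullback.diagonal q).isOpenEmbedding.isOpen_range⟩ fun y hy => ?_
      have hy' : y ∈ Set.range (pullback.fst (pullback.fst q q ≫ q) i) := by
        rw [Scheme.Pullback.range_fst]; exact hy
      obtain ⟨w, rfl⟩ := hy'
      let e := pullback.fst (pullback.fst q q ≫ q) i
      let z := pullback.snd (pullback.fst q q ≫ q) i
      have ha : (e ≫ pullback.fst q q) ≫ q = z ≫ i := by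
        rw [Category.assoc]; exact pullback.condition
      have hb : (e ≫ pullback.snd q q) ≫ q = z ≫ i := by
        rw [Category.assoc, ← pullback.condition (f := q) (g := q)]; exact pullback.condition
      have hab : pullback.lift _ _ ha = pullback.lift _ _ hb :=
        (cancel_mono (pullback.snd q i)).1 (by rw [pullback.lift_snd, pullback.lift_snd])
      have hab' := congrArg (fun m => m ≫ pullback.fst q i) hab
      simp only [pullback.lift_fst] at hab'
      refine ⟨(e ≫ pullback.fst q q) w, ?_⟩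
      have he : e = (e ≫ pullback.fst q q) ≫ pullback.diagonal q := by
        apply pullback.hom_ext <;> simp [hab']
      show _ = e w
      conv_rhs => rw [he, Scheme.Hom.comp_apply]
    haveI : Surjective (pullback.diagonal q) := ⟨Set.range_eq_univ.1 hd⟩
    exact epi_isIso _
  haveI := hmono
  haveI : IsOpenImmersion q := IsOpenImmersion.of_flat_of_mono q
  haveI : Surjective q := ⟨Set.range_eq_univ.1 <| h.eq_univ (𝟙 Z)
    ⟨q.isClosedMap.isClosed_range, q.isOpenEmbedding.isOpen_range⟩ (by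
      rintro x ⟨z, rfl⟩
      exact ⟨c z, by rw [← Scheme.Hom.comp_apply, hcq]⟩)⟩
  haveI : IsIso q := epi_isIso q
  refine ⟨inv q ≫ U.ι ≫ V.ι, ?_, ?_⟩
  · rw [Category.assoc, Category.assoc, IsIso.inv_comp_eq, Category.comp_id]
  · rw [← hcq, Category.assoc, IsIso.hom_inv_id_assoc, ← Category.assoc, hc, hs₁]

end Groth.Agent.EtEff25
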