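import Groth.Agent.Lib.EtEff25.Refine
import Groth.Agent.Lib.SchDesc12.LQF
import Mathlib.AlgebraicGeometry.Morphisms.FlatDescent
import Mathlib.FieldTheory.IsSepClosed
import Mathlib.AlgebraicGeometry.Morphisms.UniversallyOpen
import Groth.Agent.Lib.FpqcDesc.Basic
import Groth.Agent.Lib.GeomPts5.Count

/-!
# Descent of points over separably closed fields
-/

set_option autoImplicit false
set_option linter.style.haveILetI false
set_option backward.isDefEq.respectTransparency false
set_option backward.isDefEq.respectTransparency.types false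
universe u

open CategoryTheory CategoryTheory.Limits AlgebraicGeometry

namespace Groth.Agent.EtEff25

open Groth.Agent.SchDesc12

variable {S S' : Scheme.{u}} {g : S' ⟶ S}

/-- Field valued points of étale schemes over a separably closed field are rational. -/
theorem exists_factor_of_sepClosed {k : Type u} [Field k] [IsSepClosed k] {U : Scheme.{u}}
    (π : U ⟶ Spec (CommRingCat.of k)) [Etale π] {K : Type u} [Field K] (a : Spec (CommRingCat.of K) ⟶ U) :
    ∃ ι : Spec (CommRingCat.of k) ⟶ U, ι ≫ π = 𝟙 _ ∧ (a ≫ π) ≫ ι = a := by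
  let u := a (default : Spec (CommRingCat.of K))
  let r := U.fromSpecResidueField u ≫ π
  haveI : IsIso r := by
    haveI := GeomPts5.isSepClosed_residueField_spec k (π u)
    haveI : IsIso (π.residueFieldMap u) := by
      letI : Algebra ((Spec (CommRingCat.of k)).residueField (π u)) (U.residueField u) :=
        (π.residueFieldMap u).hom.toAlgebra
      rw [ConcreteCategory.isIso_iff_bijective]
      exact IsSepClosed.algebraMap_bijective _ _
    have hr : r = Spec.map (π.residueFieldMap u) ≫ (Spec (CommRingCat.of k)).fromSpecResidueField (π u) :=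
      (Scheme.Hom.SpecMap_residueFieldMap_fromSpecResidueField π u).symm
    haveI : Mono r := by rw [hr]; infer_instance
    haveI : Flat r := inferInstance
    haveI : Surjective r := ⟨fun x => ⟨default, Subsingleton.elim _ _⟩⟩
    haveI : IsPreimmersion r := by rw [hr]; infer_instance
    haveI : IsAffineHom r := inferInstance
    haveI : QuasiCompact r := inferInstance
    exact Flat.isIso_of_surjective_of_mono r
  obtain ⟨l, hl⟩ : ∃ l, l ≫ U.fromSpecResidueField u = a := by
    have hu : a (IsLocalRing.closedPoint K) = u := congrArg a (Subsingleton.elim _ _)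
    rw [← hu]
    exact ⟨_, Scheme.descResidueField_stalkClosedPointTo_fromSpecResidueField K U a⟩
  refine ⟨inv r ≫ U.fromSpecResidueField u, by rw [Category.assoc]; exact IsIso.inv_hom_id r, ?_⟩
  rw [← hl]
  simp only [r, Category.assoc]
  congr 1
  exact (Category.assoc _ _ _).symm.trans (IsIso.hom_inv_id_assoc r _)

variable (D : Desc.SchDD g) [IsSeparated D.obj.hom] [Etale D.obj.hom]

/-- A point over a separably closed field gives compatible values. -/
theorem exists_field_refSec {k : Type u} [Field k] [IsSepClosed k] (s : Spec (CommRingCat.of k) ⟶ S)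
    {K : Type u} [Field K] (h : Spec (CommRingCat.of K) ⟶ Spec (CommRingCat.of k))
    (xK : Spec (CommRingCat.of K) ⟶ D.obj.left) (hx : h ≫ s = (xK ≫ D.obj.hom) ≫ g) :
    ∃ ν : RefSec D s h (xK ≫ D.obj.hom), ν.val = xK := by
  let x' := xK ≫ D.obj.hom
  haveI : Surjective h := ⟨fun x => ⟨default, Subsingleton.elim _ _⟩⟩
  haveI : Flat h := inferInstance
  haveI : UniversallyOpen h := inferInstance
  let E := (Desc.pullDDFam (f := fun _ : PUnit.{u + 1} => g) (f' := fun _ : PUnit.{u + 1} => h)
    (α := id) (p := s) (p' := fun _ => x') (fun _ => hx.symm)).obj (famU D)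
  haveI : Etale (E.obj ⟨⟩).hom := inferInstanceAs (Etale (pullback.snd D.obj.hom x'))
  haveI : IsSeparated (E.obj ⟨⟩).hom := inferInstanceAs (IsSeparated (pullback.snd D.obj.hom x'))
  haveI : LocallyQuasiFinite (E.obj ⟨⟩).hom := SchDesc12.locallyQuasiFinite_of_etale _
  obtain ⟨U, ⟨a⟩⟩ := SchDesc12.isEffective_lqf_single h E
  let i : Over.mk (pullback.fst h U.hom) ≅ E.obj ⟨⟩ :=
    { hom := a.hom.hom ⟨⟩
      inv := a.inv.hom ⟨⟩
      hom_inv_id := congrArg (fun b : _ ⟶ (Desc.toDDFam _).obj U => b.hom ⟨⟩) a.hom_inv_id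
      inv_hom_id := congrArg (fun b : E ⟶ E => b.hom ⟨⟩) a.inv_hom_id }
  haveI : IsIso i.hom.left := inferInstanceAs (IsIso ((Over.forget _).mapIso i).hom)
  haveI : Etale U.hom := by
    have hQ : (@Surjective ⊓ @Flat ⊓ @QuasiCompact : MorphismProperty Scheme.{u}) h :=
      ⟨⟨inferInstance, inferInstance⟩, inferInstance⟩
    refine MorphismProperty.of_pullback_fst_of_descendsAlong (P := @Etale) hQ ?_
    rw [show pullback.fst h U.hom = i.hom.left ≫ (E.obj ⟨⟩).hom from (Over.w i.hom).symm]
    infer_instance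
  let ξ : Spec (CommRingCat.of K) ⟶ (E.obj ⟨⟩).left :=
    pullback.lift xK (𝟙 _) (Category.id_comp _).symm
  have hξ : ξ ≫ (E.obj ⟨⟩).hom = 𝟙 _ := pullback.lift_snd _ _ _
  let ζ : Spec (CommRingCat.of K) ⟶ pullback h U.hom := ξ ≫ i.inv.left
  have hζ : ζ ≫ pullback.fst h U.hom = 𝟙 _ := by
    rw [Category.assoc]; exact (congrArg (ξ ≫ ·) (Over.w i.inv)).trans hξ
  have hζi : ζ ≫ i.hom.left = ξ := by
    rw [Category.assoc]
    exact (congrArg (ξ ≫ ·) (congrArg (fun b => b.left) i.inv_hom_id)).trans (Category.comp_id _)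
  let uK := ζ ≫ pullback.snd h U.hom
  have huK : uK ≫ U.hom = h := by
    rw [Category.assoc, ← pullback.condition, ← Category.assoc, hζ, Category.id_comp]
  obtain ⟨ι, -, hι⟩ := exists_factor_of_sepClosed U.hom uK
  rw [huK] at hι
  refine ⟨⟨xK, rfl, hx, fun T' z₀ z₁ hz e v hv => ?_⟩, rfl⟩
  let w : Desc.Lifts (E.obj ⟨⟩) z₀ := ⟨z₀ ≫ ξ, by rw [Category.assoc, hξ, Category.comp_id]⟩
  let c : Desc.Lifts (Over.mk (pullback.fst h U.hom)) z₀ :=
    ⟨z₀ ≫ ζ, by
      show (z₀ ≫ ζ) ≫ pullback.fst h U.hom = z₀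
      rw [Category.assoc, hζ, Category.comp_id]⟩
  have hc := a.hom.comm (i := PUnit.unit) (j := PUnit.unit) z₀ z₁ hz c w (by
    show z₀ ≫ ξ = (z₀ ≫ ζ) ≫ i.hom.left
    rw [Category.assoc, hζi])
  have hcan : (((Desc.canonicalDDFam (fun _ : PUnit.{u + 1} => h) U).φ (i := PUnit.unit)
      (j := PUnit.unit) z₀ z₁ hz c).1) = z₁ ≫ ζ := by
    apply pullback.hom_ext
    · refine (pullback.lift_fst _ _ _).trans ?_
      rw [Category.assoc, hζ, Category.comp_id]
    · refine (pullback.lift_snd _ _ _).trans ?_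
      show (z₀ ≫ ζ) ≫ pullback.snd h U.hom = (z₁ ≫ ζ) ≫ pullback.snd h U.hom
      rw [Category.assoc, Category.assoc]
      change z₀ ≫ uK = z₁ ≫ uK
      rw [← hι, ← Category.assoc, ← Category.assoc, hz]
  have hres := congrArg (fun m => m ≫ pullback.fst D.obj.hom x') hc
  have hl : ((E.φ (i := PUnit.unit) (j := PUnit.unit) z₀ z₁ hz w).1) ≫ pullback.fst D.obj.hom x' =
      (D.φ (z₀ ≫ x') (z₁ ≫ x') e v).1 := by
    refine (pullback.lift_fst _ _ _).trans ?_
    refine congrArg (fun k => (D.φ _ _ _ k).1) (Subtype.ext ?_)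
    show (z₀ ≫ ξ) ≫ pullback.fst D.obj.hom x' = v.1
    rw [hv]
    exact (Category.assoc _ _ _).trans (congrArg (z₀ ≫ ·) (pullback.lift_fst _ _ _))
  refine hl.symm.trans (hres.trans ?_)
  refine (congrArg (fun m => (m ≫ i.hom.left) ≫ pullback.fst D.obj.hom x') hcan).trans ?_
  rw [Category.assoc z₁, hζi]
  exact (Category.assoc _ _ _).trans (congrArg (z₁ ≫ ·) (pullback.lift_fst _ _ _))

end Groth.Agent.EtEff25
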