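import Groth.Agent.Lib.EffDesc25.Sol

/-!
# The locus where two descended sections agree is clopen
-/

set_option autoImplicit false
set_option linter.style.haveILetI false
set_option backward.isDefEq.respectTransparency false
set_option backward.isDefEq.respectTransparency.types false
universe u

open CategoryTheory CategoryTheory.Limits AlgebraicGeometry

namespace Groth.Agent.EtEff25

open Groth.Agent.SchDesc12

variable {S S' : Scheme.{u}} {g : S' ⟶ S} {D : Desc.SchDDFam (fun _ : PUnit.{u + 1} => g)}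

theorem surjective_of_univSubmersive {X Y : Scheme.{u}} {f : X ⟶ Y} (hf : SGA1.UnivSubmersive f) :
    Surjective f :=
  ⟨(UnivSubm25.isQuotientMap_of_univSubmersive hf).surjective⟩

/-- A field valued point landing in a set lifts the agreement of two maps. -/
theorem eq_iff_mem_range_diagonal {P X Y : Scheme.{u}} (q : X ⟶ Y) [Etale q] (a b : P ⟶ X)
    (h : a ≫ q = b ≫ q) {K : Type u} [Field K] (y : Spec (CommRingCat.of K) ⟶ P) :
    (∀ t, (y ≫ pullback.lift a b h) t ∈ Set.range (pullback.diagonal q)) ↔ y ≫ a = y ≫ b := by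
  constructor
  · intro ht
    obtain ⟨r, hr⟩ : ∃ r, r ≫ pullback.diagonal q = y ≫ pullback.lift a b h :=
      ⟨IsOpenImmersion.lift (pullback.diagonal q) (y ≫ pullback.lift a b h)
        (by rintro _ ⟨t, rfl⟩; exact ht t), IsOpenImmersion.lift_fac _ _ _⟩
    have h1 := congrArg (· ≫ pullback.fst q q) hr
    have h2 := congrArg (· ≫ pullback.snd q q) hr
    simp only [Category.assoc, pullback.lift_fst, pullback.lift_snd, pullback.diagonal_fst,
      pullback.diagonal_snd, Category.comp_id] at h1 h2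
    rw [← h1, ← h2]
  · intro he t
    refine ⟨(y ≫ a) t, ?_⟩
    have : (y ≫ a) ≫ pullback.diagonal q = y ≫ pullback.lift a b h := by
      apply pullback.hom_ext <;> simp [he]
    rw [← Scheme.Hom.comp_apply, this]

variable [Etale (D.obj PUnit.unit).hom] [IsSeparated (D.obj PUnit.unit).hom] {T : Scheme.{u}} {t : T ⟶ S}

/-- The points of the base change where two sections agree. -/
def eqSet (σ τ : Sec D t) : Set (pullback t g : Scheme.{u}) :=
  pullback.lift (f := (D.obj PUnit.unit).hom) (g := (D.obj PUnit.unit).hom) (σ.val PUnit.unit)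
    (τ.val PUnit.unit) ((σ.over_ _).trans (τ.over_ _).symm) ⁻¹'
      Set.range (pullback.diagonal (D.obj PUnit.unit).hom)

theorem isClopen_eqSet (σ τ : Sec D t) : IsClopen (eqSet σ τ) :=
  ⟨(pullback.diagonal (D.obj PUnit.unit).hom).isClosedEmbedding.isClosed_range.preimage (Scheme.Hom.continuous _),
    (pullback.diagonal (D.obj PUnit.unit).hom).isOpenEmbedding.isOpen_range.preimage (Scheme.Hom.continuous _)⟩

theorem mem_eqSet_iff (σ τ : Sec D t) {K : Type u} [Field K] (y : Spec (CommRingCat.of K) ⟶ pullback t g)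
    (p : (pullback t g : Scheme.{u})) (hp : ∀ x, y x = p) (a : Spec (CommRingCat.of K) ⟶ T)
    (x : Spec (CommRingCat.of K) ⟶ S') (ha : y ≫ pullback.fst t g = a) (hx : y ≫ pullback.snd t g = x)
    (e : a ≫ t = x ≫ g) :
    p ∈ eqSet σ τ ↔ (σ.eval (i := PUnit.unit) a x e).1 = (τ.eval (i := PUnit.unit) a x e).1 := by
  have hv : ∀ ρ : Sec D t, (ρ.eval (i := PUnit.unit) a x e).1 = y ≫ ρ.val PUnit.unit := fun ρ => by
    show pullback.lift a x e ≫ _ = _
    congr 1
    apply pullback.hom_ext <;> simp [ha, hx]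
  rw [hv, hv, ← eq_iff_mem_range_diagonal (D.obj PUnit.unit).hom (σ.val PUnit.unit) (τ.val PUnit.unit)
    ((σ.over_ _).trans (τ.over_ _).symm) y]
  constructor
  · intro h t'
    rw [Scheme.Hom.comp_apply, hp t']
    exact h
  · intro h
    have := h default
    rwa [Scheme.Hom.comp_apply, hp] at this

theorem eqSet_saturated (σ τ : Sec D t) {p p' : (pullback t g : Scheme.{u})}
    (h : pullback.fst t g p = pullback.fst t g p') (hp : p ∈ eqSet σ τ) : p' ∈ eqSet σ τ := by
  obtain ⟨w, hw₁, hw₂⟩ := Scheme.Pullback.exists_preimage_pullback p p' h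
  let P2 := pullback (pullback.fst t g) (pullback.fst t g)
  let y : Spec (CommRingCat.of (P2.residueField w)) ⟶ P2 := P2.fromSpecResidueField w
  let y₀ := y ≫ pullback.fst (pullback.fst t g) (pullback.fst t g)
  let y₁ := y ≫ pullback.snd (pullback.fst t g) (pullback.fst t g)
  let a := y₀ ≫ pullback.fst t g
  have ha : y₁ ≫ pullback.fst t g = a := by
    simp only [a, y₀, y₁, Category.assoc]; exact congrArg (y ≫ ·) pullback.condition.symm
  have e₀ : a ≫ t = (y₀ ≫ pullback.snd t g) ≫ g := by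
    simp only [a, Category.assoc, pullback.condition]
  have e₁ : a ≫ t = (y₁ ≫ pullback.snd t g) ≫ g := by
    rw [← ha]; simp only [Category.assoc, pullback.condition]
  have hy : ∀ x, y x = w := fun x => Scheme.fromSpecResidueField_apply w x
  rw [mem_eqSet_iff σ τ y₁ p' (fun x => by
    simp only [y₁, Scheme.Hom.comp_apply, hy]; exact hw₂) a _ ha rfl e₁]
  rw [mem_eqSet_iff σ τ y₀ p (fun x => by
    simp only [y₀, Scheme.Hom.comp_apply, hy]; exact hw₁) a _ rfl rfl e₀] at hp
  rw [← σ.eval_compat a _ _ e₀ e₁, ← τ.eval_compat a _ _ e₀ e₁]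
  exact congrArg (fun v => (D.φ (i := PUnit.unit) (j := PUnit.unit) _ _ _ v).1) (Subtype.ext hp)

/-- The locus where two sections agree. -/
theorem exists_locus (hg : SGA1.UnivSubmersive g) (σ τ : Sec D t) : ∃ E : T.Opens,
    IsClosed (E : Set T) ∧ σ.pull E.ι rfl = τ.pull E.ι (t' := E.ι ≫ t) rfl ∧
    ∀ ⦃T' : Scheme.{u}⦄ (a : T' ⟶ T) (t' : T' ⟶ S) (e : a ≫ t = t'),
      σ.pull a e = τ.pull a e → Set.range a ⊆ E := by
  let q : pullback t g ⟶ T := pullback.fst t g
  have hq : SGA1.UnivSubmersive q := MorphismProperty.pullback_fst _ _ hg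
  have hqq := UnivSubm25.isQuotientMap_of_univSubmersive hq
  have hpre : q ⁻¹' (q '' eqSet σ τ) = eqSet σ τ := by
    refine Set.Subset.antisymm ?_ (Set.subset_preimage_image _ _)
    rintro p ⟨p₀, hp₀, he⟩
    exact eqSet_saturated σ τ he hp₀
  refine ⟨⟨q '' eqSet σ τ, ?_⟩, ?_, ?_, ?_⟩
  · rw [← hqq.isOpen_preimage, hpre]; exact (isClopen_eqSet σ τ).2
  · show IsClosed (q '' eqSet σ τ)
    rw [← hqq.isClosed_preimage, hpre]; exact (isClopen_eqSet σ τ).1
  · let E : T.Opens := ⟨q '' eqSet σ τ, by rw [← hqq.isOpen_preimage, hpre]; exact (isClopen_eqSet σ τ).2⟩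
    show σ.pull E.ι rfl = τ.pull E.ι (t' := E.ι ≫ t) rfl
    refine (σ.pull E.ι (t' := E.ι ≫ t) rfl).ext_eval fun T' i a x e => ?_
    obtain ⟨⟩ := i
    rw [Sec.eval_pull, Sec.eval_pull]
    have e' : (a ≫ E.ι) ≫ t = x ≫ g := by rw [Category.assoc, e]
    let y : T' ⟶ pullback t g := pullback.lift (a ≫ E.ι) x e'
    show y ≫ σ.val PUnit.unit = y ≫ τ.val PUnit.unit
    let h := pullback.lift (f := (D.obj PUnit.unit).hom) (g := (D.obj PUnit.unit).hom) (σ.val PUnit.unit)
      (τ.val PUnit.unit) ((σ.over_ _).trans (τ.over_ _).symm)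
    have hr : Set.range (y ≫ h) ⊆ Set.range (pullback.diagonal (D.obj PUnit.unit).hom) := by
      rintro _ ⟨z, rfl⟩
      rw [Scheme.Hom.comp_apply]
      show y z ∈ eqSet σ τ
      rw [← hpre]
      show q (y z) ∈ (E : Set T)
      rw [← Scheme.Hom.comp_apply, pullback.lift_fst, Scheme.Hom.comp_apply]
      exact (a z).2
    have hh := IsOpenImmersion.lift_fac (pullback.diagonal (D.obj PUnit.unit).hom) (y ≫ h) hr
    have h1 := congrArg (· ≫ pullback.fst _ _) hh
    have h2 := congrArg (· ≫ pullback.snd _ _) hh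
    simp only [h, Category.assoc, pullback.lift_fst, pullback.lift_snd, pullback.diagonal_fst,
      pullback.diagonal_snd, Category.comp_id] at h1 h2
    rw [← h1, ← h2]
  · rintro T' a t' e h _ ⟨z, rfl⟩
    haveI : Surjective (pullback.fst t' g) :=
      surjective_of_univSubmersive (MorphismProperty.pullback_fst _ _ hg)
    obtain ⟨w, hw⟩ := (pullback.fst t' g).surjective z
    let P' := pullback t' g
    let y := P'.fromSpecResidueField w
    let a₀ := y ≫ pullback.fst t' g
    let x₀ := y ≫ pullback.snd t' g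
    have e₀ : a₀ ≫ t' = x₀ ≫ g := by simp only [a₀, x₀, Category.assoc, pullback.condition]
    have e₁ : (a₀ ≫ a) ≫ t = x₀ ≫ g := by rw [Category.assoc, e, e₀]
    have hv : (σ.eval (i := PUnit.unit) (a₀ ≫ a) x₀ e₁).1 = (τ.eval (i := PUnit.unit) (a₀ ≫ a) x₀ e₁).1 := by
      have := congrArg (fun ρ : Sec D t' => (ρ.eval (i := PUnit.unit) a₀ x₀ e₀).1) h
      simpa only [Sec.eval_pull] using this
    let y' := pullback.lift (a₀ ≫ a) x₀ e₁
    have hy' : ∀ v, y' v = y' default := fun v => congrArg y' (Subsingleton.elim v default)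
    refine ⟨y' default, (mem_eqSet_iff σ τ y' _ hy' _ _ (pullback.lift_fst _ _ _)
      (pullback.lift_snd _ _ _) e₁).2 hv, ?_⟩
    show q (y' default) = a z
    rw [← Scheme.Hom.comp_apply, pullback.lift_fst]
    simp only [a₀, Scheme.Hom.comp_apply, y, Scheme.fromSpecResidueField_apply]; exact congrArg a hw

end Groth.Agent.EtEff25
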