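import Groth.Agent.Lib.EtEff25.Space
import Groth.Agent.Lib.AlgSpace.LqfScheme
import Groth.Agent.Lib.AlgSpDescent.SchemeSource
import Groth.Agent.Lib.EtStalk.FiniteSplit

/-!
# Étale data with enough descended sections are representable
-/

set_option autoImplicit false
set_option linter.style.haveILetI false
set_option backward.isDefEq.respectTransparency false
set_option backward.isDefEq.respectTransparency.types false
universe u

open CategoryTheory CategoryTheory.Limits AlgebraicGeometry Opposite

namespace Groth.Agent.EtEff25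

open Groth.Agent.SchDesc12 AlgSp

variable {S S' : Scheme.{u}} {g : S' ⟶ S} {D : Desc.SchDDFam (fun _ : PUnit.{u + 1} => g)}
  [Etale (D.obj PUnit.unit).hom] [IsSeparated (D.obj PUnit.unit).hom]

theorem representable_hom (hg : SGA1.UnivSubmersive g) {T : Over S} (σ : (yon S).obj T ⟶ secSheaf D) :
    Representable σ := fun W τ => by
  obtain ⟨V, p, q, -, sq, -⟩ := exists_fibre_product hg τ σ
  exact ⟨V, p, (yon S).map q, sq⟩

/-- The descended sheaf is separated over the base. -/
theorem isSeparatedMor_toBase (hg : SGA1.UnivSubmersive g) : IsSeparatedMor (toBase D) := by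
  refine AlgSpace.repWith_mk fun T γ => ?_
  let σ₁ := γ ≫ pullback.fst (toBase D) (toBase D)
  let σ₂ := γ ≫ pullback.snd (toBase D) (toBase D)
  obtain ⟨V, j, hjc, -, he, hu⟩ := exists_equalizer hg (secOfHom D σ₁) (secOfHom D σ₂)
  haveI : Mono j.left := inferInstance
  refine ⟨V, (yon S).map j ≫ σ₁, j, isPullback_of_sections _ _ _ _ ?_ ?_ ?_, hjc⟩
  · apply pullback.hom_ext
    · simp [σ₁]
    · rw [Category.assoc, pullback.diagonal_snd, Category.comp_id, Category.assoc]
      apply ObjectProperty.hom_ext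
      apply NatTrans.ext
      funext Z
      apply ConcreteCategory.hom_ext
      intro (c : ULift.{u + 1} (Z.unop ⟶ V))
      refine ULift.ext _ _ ?_
      show (σ₁.hom.app Z ⟨c.down ≫ j⟩).down = (σ₂.hom.app Z ⟨c.down ≫ j⟩).down
      rw [hom_app_eq, hom_app_eq]
      have h := congrArg (fun ρ : Sec D V.hom => ρ.pull c.down.left (Over.w c.down)) he
      refine Eq.trans ?_ (Eq.trans h ?_)
      · exact (pull_pull _ _ _ _ _ _ rfl (Over.w (c.down ≫ j))).symm
      · exact pull_pull _ _ _ _ _ _ rfl (Over.w (c.down ≫ j))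
  · intro Z (x : ULift.{u + 1} (Z.unop ⟶ V)) (y : ULift.{u + 1} (Z.unop ⟶ V)) _ h
    have e : x.down ≫ j = y.down ≫ j := congrArg ULift.down h
    exact ULift.ext _ _ (Over.OverMorphism.ext ((cancel_mono j.left).1 (congrArg (fun m => m.left) e)))
  · intro Z x (y : ULift.{u + 1} (Z.unop ⟶ T)) hxy
    have h₁ : x = σ₁.hom.app Z y := by
      have := congrArg (fun z => (pullback.fst (toBase D) (toBase D)).hom.app Z z) hxy
      refine Eq.trans ?_ this
      exact (congrArg (fun m : secSheaf D ⟶ secSheaf D => m.hom.app Z x)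
        (pullback.diagonal_fst (toBase D)).symm)
    have h₂ : x = σ₂.hom.app Z y := by
      have := congrArg (fun z => (pullback.snd (toBase D) (toBase D)).hom.app Z z) hxy
      refine Eq.trans ?_ this
      exact (congrArg (fun m : secSheaf D ⟶ secSheaf D => m.hom.app Z x)
        (pullback.diagonal_snd (toBase D)).symm)
    have h : (secOfHom D σ₁).pull y.down.left (Over.w y.down) = (secOfHom D σ₂).pull y.down.left (Over.w y.down) :=
      ((hom_app_eq D σ₁ y.down).symm.trans (congrArg ULift.down (h₁.symm.trans h₂))).trans (hom_app_eq D σ₂ y.down)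
    obtain ⟨c, hc⟩ := hu y.down h
    refine ⟨⟨c⟩, ?_, ULift.ext _ _ hc⟩
    show σ₁.hom.app Z ⟨c ≫ j⟩ = x
    rw [hc]
    exact h₁.symm

/-- Values of two sections at a common point determine agreement over a field. -/
theorem pull_eq_of_eval_eq {K : Type u} [Field K] {T W : Scheme.{u}} {t : T ⟶ S} {w : W ⟶ S} (σ : Sec D t)
    (τ : Sec D w) (a : Spec (CommRingCat.of K) ⟶ T) (b : Spec (CommRingCat.of K) ⟶ W)
    (x : Spec (CommRingCat.of K) ⟶ S') (e₁ : a ≫ t = x ≫ g) (e₂ : b ≫ w = x ≫ g)
    (h : (σ.eval (i := PUnit.unit) a x e₁).1 = (τ.eval (i := PUnit.unit) b x e₂).1) :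
    σ.pull a e₁ = τ.pull b (t' := x ≫ g) e₂ := by
  refine Sec.ext_eval _ fun Z i z y e => ?_
  obtain ⟨⟩ := i
  rw [Sec.eval_pull, Sec.eval_pull]
  have f₁ : (z ≫ a) ≫ t = (z ≫ x) ≫ g := by rw [Category.assoc, e₁, Category.assoc]
  have f₂ : (z ≫ b) ≫ w = (z ≫ x) ≫ g := by rw [Category.assoc, e₂, Category.assoc]
  rw [← σ.eval_compat (z ≫ a) (z ≫ x) y f₁ (by rw [Category.assoc, e₁, e]),
    ← τ.eval_compat (z ≫ b) (z ≫ x) y f₂ (by rw [Category.assoc, e₂, e])]
  refine congrArg (fun v => (D.φ (i := PUnit.unit) (j := PUnit.unit) (z ≫ x) y _ v).1) (Subtype.ext ?_)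
  rw [σ.eval_natural z a x e₁ _ _ rfl rfl f₁, τ.eval_natural z b x e₂ _ _ rfl rfl f₂, h]

variable {W : Scheme.{u}} {w : W ⟶ S} (σ : Sec D w)

/-- The atlas given by a section. -/
noncomputable def atlas : (yon S).obj (Over.mk w) ⟶ secSheaf D := homOfSec D (T := Over.mk w) σ

theorem secOfHom_atlas : secOfHom D (atlas σ) = σ :=
  pull_id σ _ rfl (Category.id_comp _)

theorem repWith_atlas (hg : SGA1.UnivSubmersive g) [Etale w] [Surjective (σ.val PUnit.unit)] :
    RepWith @Etale (atlas σ) ∧ RepWith @Surjective (atlas σ) := by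
  constructor
  · refine AlgSpace.repWith_mk fun T τ => ?_
    obtain ⟨V, p, q, j, sq, hjo, -, hjp⟩ := exists_fibre_product hg τ (atlas σ)
    refine ⟨V, (yon S).map q, p, sq, ?_⟩
    haveI : Etale (pullback.fst T.hom w) := inferInstance
    rw [← hjp]
    exact inferInstanceAs (Etale (j ≫ pullback.fst T.hom w))
  · refine AlgSpace.repWith_mk fun T τ => ?_
    obtain ⟨V, p, q, j, sq, hjo, -, hjp⟩ := exists_fibre_product hg τ (atlas σ)
    refine ⟨V, (yon S).map q, p, sq, ⟨fun t => ?_⟩⟩
    haveI : Surjective (pullback.fst T.hom g) :=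
      surjective_of_univSubmersive (MorphismProperty.pullback_fst _ _ hg)
    let ρ := secOfHom D τ
    obtain ⟨a, ha⟩ := (pullback.fst T.hom g).surjective t
    obtain ⟨b, hb⟩ := (σ.val PUnit.unit).surjective (ρ.val PUnit.unit a)
    obtain ⟨z, hza, -⟩ := Scheme.Pullback.exists_preimage_pullback a b hb.symm
    let Q := pullback (ρ.val PUnit.unit) (σ.val PUnit.unit)
    let y := Q.fromSpecResidueField z
    let y₁ := y ≫ pullback.fst (ρ.val PUnit.unit) (σ.val PUnit.unit)
    let y₂ := y ≫ pullback.snd (ρ.val PUnit.unit) (σ.val PUnit.unit)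
    let x := y₁ ≫ pullback.snd T.hom g
    have hx : y₂ ≫ pullback.snd w g = x := by
      simp only [x, y₁, y₂, Category.assoc]
      rw [← ρ.over_ PUnit.unit, ← σ.over_ PUnit.unit, pullback.condition_assoc]
    have e₁ : (y₁ ≫ pullback.fst T.hom g) ≫ T.hom = x ≫ g := by
      simp only [x, Category.assoc, pullback.condition]
    have e₂ : (y₂ ≫ pullback.fst w g) ≫ w = x ≫ g := by
      rw [← hx]; simp only [Category.assoc, pullback.condition]
    have hv : (ρ.eval (i := PUnit.unit) _ x e₁).1 = (σ.eval (i := PUnit.unit) _ x e₂).1 := by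
      show pullback.lift _ _ e₁ ≫ ρ.val PUnit.unit = pullback.lift _ _ e₂ ≫ σ.val PUnit.unit
      rw [show pullback.lift _ _ e₁ = y₁ by apply pullback.hom_ext <;> simp [x],
        show pullback.lift _ _ e₂ = y₂ by apply pullback.hom_ext <;> simp [← hx]]
      simp only [y₁, y₂, Category.assoc, pullback.condition]
    have h := pull_eq_of_eval_eq ρ σ _ _ x e₁ e₂ hv
    let Z : Over S := Over.mk (x ≫ g)
    let za : Z ⟶ T := Over.homMk (y₁ ≫ pullback.fst T.hom g) e₁
    let zb : Z ⟶ Over.mk w := Over.homMk (y₂ ≫ pullback.fst w g) e₂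
    have hcomm : (yon S).map zb ≫ atlas σ = (yon S).map za ≫ τ := by
      apply ObjectProperty.hom_ext
      apply NatTrans.ext
      funext Z'
      apply ConcreteCategory.hom_ext
      intro (c : ULift.{u + 1} (Z'.unop ⟶ Z))
      refine ULift.ext _ _ ?_
      show ((atlas σ).hom.app Z' ⟨c.down ≫ zb⟩).down = (τ.hom.app Z' ⟨c.down ≫ za⟩).down
      rw [hom_app_eq, hom_app_eq, secOfHom_atlas]
      refine Eq.trans ?_ (Eq.trans (congrArg (fun ρ' : Sec D Z.hom => ρ'.pull c.down.left (Over.w c.down)) h).symm ?_)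
      · exact (pull_pull _ _ _ _ _ _ rfl (Over.w (c.down ≫ zb))).symm
      · exact pull_pull _ _ _ _ _ _ rfl (Over.w (c.down ≫ za))
    let c : Z ⟶ V := (yon S).preimage (sq.lift _ _ hcomm)
    have hc : c ≫ p = za := (yon S).map_injective (by
      rw [Functor.map_comp, (yon S).map_preimage, sq.lift_snd])
    refine ⟨c.left (default : Spec (CommRingCat.of (Q.residueField z))), ?_⟩
    have he : c.left ≫ p.left = y₁ ≫ pullback.fst T.hom g := congrArg (fun m => m.left) hc
    rw [← Scheme.Hom.comp_apply, he]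
    simp only [y₁, Scheme.Hom.comp_apply, y]
    erw [Scheme.fromSpecResidueField_apply]
    erw [hza, ha]

theorem isAlgSpace_secSheaf (hg : SGA1.UnivSubmersive g) [Etale w] [Surjective (σ.val PUnit.unit)] :
    IsAlgSpace (secSheaf D) where
  diag := Functor.relativelyRepresentable.diag_of_map_from_obj fun _ τ => representable_hom hg τ
  atlas := ⟨_, atlas σ, repWith_atlas σ hg⟩

/-- Charts of the descended sheaf are étale over the base. -/
theorem locP_toBase (hg : SGA1.UnivSubmersive g) [Etale w] [Surjective (σ.val PUnit.unit)] :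
    LocP (@LocallyQuasiFinite ⊓ @LocallyOfFiniteType) (toBase D) := by
  intro U V a b h ha hb _
  obtain ⟨b', rfl⟩ := (yon S).map_surjective b
  have hb' : Etale b'.left := (repWith_yon_map_iff _ _).1 hb
  haveI : Etale V.hom := by
    have e : b'.left = V.hom := by
      have := Over.w b'
      simp only [Over.mk_hom] at this
      exact (Category.comp_id b'.left).symm.trans this
    rw [← e]; exact hb'
  obtain ⟨hae, has⟩ := repWith_atlas σ hg
  have sq := hae.1.isPullback a
  haveI : Etale (hae.1.snd a).left := hae.2 a _ _ sq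
  haveI : Surjective (hae.1.snd a).left := has.2 a _ _ sq
  let q := (yon S).preimage (hae.1.fst a)
  have hq : RepWith @Etale ((yon S).map q) := by
    rw [(yon S).map_preimage]
    exact AlgSpace.repWith_of_isPullback sq.flip ha
  have hq' : Etale q.left := (repWith_yon_map_iff _ _).1 hq
  haveI : Etale w := ‹_›
  have h₁ : Etale ((hae.1.snd a).left ≫ U.hom) := by
    rw [Over.w, ← Over.w q]
    exact inferInstanceAs (Etale (q.left ≫ w))
  haveI : Etale U.hom := AlgSpDescent.descendsEtaleSource_etale (hae.1.snd a).left U.hom inferInstance inferInstance h₁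
  haveI : Etale (h.left ≫ V.hom) := by rw [Over.w h]; infer_instance
  haveI : Etale h.left := Etale.of_comp h.left V.hom
  exact ⟨FiniteSplit.locallyQuasiFinite_of_etale h.left, inferInstance⟩

/-- A separated étale datum with enough sections is represented by an étale scheme. -/
theorem exists_rep (hg : SGA1.UnivSubmersive g) [Etale w] [Surjective (σ.val PUnit.unit)] :
    ∃ R : Rep D (𝟙 S), Etale R.π := by
  have hA := isAlgSpace_secSheaf σ hg
  obtain ⟨G, ⟨e⟩⟩ := AlgSpace.exists_iso_yon_of_lqf_separated hA (toBase D)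
    (isSeparatedMor_toBase hg) (locP_toBase σ hg)
  let ρ := secOfHom D e.hom
  have hρ : ∀ {Z : Over S} (c : Z ⟶ G), (e.hom.hom.app (op Z) ⟨c⟩).down = ρ.pull c.left (Over.w c) :=
    fun c => hom_app_eq D e.hom c
  refine ⟨
    { U := G.left
      π := G.hom
      univ := ρ.pull (𝟙 _) (by rw [Category.id_comp, Category.comp_id])
      exists_lift := fun T z τ => ?_
      hom_ext := fun T b b' hπ hv => ?_ }, ?_⟩
  · let τ' : Sec D (Over.mk z).hom := τ.pull (𝟙 T) (by rw [Category.id_comp, Category.comp_id]; rfl)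
    let c := (e.inv.hom.app (op (Over.mk z)) ⟨τ'⟩ : ULift.{u + 1} (Over.mk z ⟶ G))
    have hc : e.hom.hom.app (op (Over.mk z)) c = ⟨τ'⟩ :=
      congrArg (fun m : secSheaf D ⟶ secSheaf D => m.hom.app (op (Over.mk z)) ⟨τ'⟩) e.inv_hom_id
    have h := (hρ c.down).symm.trans (congrArg ULift.down hc)
    refine ⟨c.down.left, Over.w c.down, fun T' i a x ea ea' => ?_⟩
    have h' := congrArg (fun m : Sec D (Over.mk z).hom => (m.eval (i := i) a x
      (by rw [← ea, Category.comp_id]; rfl)).1) h
    simp only [τ', Sec.eval_pull] at h' ⊢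
    refine Eq.trans ?_ (h'.trans (Sec.eval_congr τ (Category.comp_id a) rfl _ _))
    exact Sec.eval_congr ρ (Category.comp_id _) rfl _ _
  · let c : Over.mk (b ≫ G.hom) ⟶ G := Over.homMk b rfl
    let c' : Over.mk (b ≫ G.hom) ⟶ G := Over.homMk b' hπ.symm
    have key : (e.hom.hom.app (op (Over.mk (b ≫ G.hom))) ⟨c⟩) = e.hom.hom.app (op (Over.mk (b ≫ G.hom))) ⟨c'⟩ := by
      refine ULift.ext _ _ ((hρ c).trans (Eq.trans ?_ (hρ c').symm))
      refine Sec.ext_eval _ fun T' i a x ea => ?_
      rw [Sec.eval_pull, Sec.eval_pull]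
      have := hv i a x (by rw [Category.comp_id, Category.assoc]; exact ea)
        (by rw [Category.comp_id, Category.assoc, ← hπ]; exact ea)
      simp only [Sec.eval_pull] at this
      exact (Sec.eval_congr ρ (Category.comp_id _).symm rfl _ _).trans
        (this.trans (Sec.eval_congr ρ (Category.comp_id _) rfl _ _))
    have := congrArg (fun m => e.inv.hom.app (op (Over.mk (b ≫ G.hom))) m) key
    have hid : ∀ k, e.inv.hom.app (op (Over.mk (b ≫ G.hom))) (e.hom.hom.app _ k) = k := fun k =>
      congrArg (fun m : (yon S).obj G ⟶ (yon S).obj G => m.hom.app (op (Over.mk (b ≫ G.hom))) k) e.hom_inv_id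
    simp only [hid] at this
    exact congrArg (fun m : Over.mk (b ≫ G.hom) ⟶ G => m.left) (congrArg ULift.down this)
  · obtain ⟨hae, has⟩ := repWith_atlas σ hg
    let m := (yon S).preimage (atlas σ ≫ e.inv)
    have hm : (yon S).map m = atlas σ ≫ e.inv := (yon S).map_preimage _
    haveI : Etale m.left := (repWith_yon_map_iff @Etale m).1 (by
      rw [hm]; exact (AlgSpace.repWith_respectsIso_right _).2 hae)
    haveI : Surjective m.left := (repWith_yon_map_iff @Surjective m).1 (by
      rw [hm]; exact (AlgSpace.repWith_respectsIso_right _).2 has)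
    exact AlgSpDescent.descendsEtaleSource_etale m.left G.hom inferInstance inferInstance
      (by rw [Over.w m]; exact ‹Etale w›)

end Groth.Agent.EtEff25
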