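import Groth.Agent.Lib.EtEff25.Affine
import Groth.Agent.Lib.SubtrDesc12.Spec

/-!
# Étale descent along universally open surjections
-/

set_option autoImplicit false
set_option linter.style.haveILetI false
set_option backward.isDefEq.respectTransparency false
set_option backward.isDefEq.respectTransparency.types false
universe u

open CategoryTheory CategoryTheory.Limits AlgebraicGeometry

namespace Groth.Agent.EtEff25

open Groth.Agent.SchDesc12

variable {S S' : Scheme.{u}} {g : S' ⟶ S}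

/-- Universally open surjections lift specializations universally. -/
theorem univSSubtrusive_of_universallyOpen {X Y : Scheme.{u}} (f : X ⟶ Y) [UniversallyOpen f] [Surjective f] :
    Subtr.UnivSSubtrusive f := by
  refine SubtrDesc12.univSSubtrusive_of_genS fun W _ _ _ x => ?_
  haveI : Surjective (pullback.snd f x) := MorphismProperty.pullback_snd _ _ ‹_›
  obtain ⟨z, hz⟩ := (pullback.snd f x).surjective (IsLocalRing.closedPoint W)
  obtain ⟨z', hz', hgen⟩ := SubtrDesc12.genO_of_universallyOpen (IsPullback.of_hasPullback f x) z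
  exact ⟨z, z', hz', hz, hgen⟩

/-- A point is hit by the section of compatible values on a covering. -/
theorem hasSectionAt_of_refSec (D : Desc.SchDD g) [IsSeparated D.obj.hom] [Etale D.obj.hom]
    {U Z₅ : Scheme.{u}} (w : U ⟶ S) [Etale w] {π₅ : Z₅ ⟶ U} (hπ₅ : SGA1.UnivSubmersive π₅) {e₅ : Z₅ ⟶ S'}
    (ν : RefSec D w π₅ e₅) {K : Type u} [Field K] (z5 : Spec (CommRingCat.of K) ⟶ Z₅)
    (xK : Spec (CommRingCat.of K) ⟶ D.obj.left) (h : (xK ≫ D.obj.hom) ≫ g = (z5 ≫ e₅) ≫ g)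
    (hv : z5 ≫ ν.val = (D.φ (xK ≫ D.obj.hom) (z5 ≫ e₅) h ⟨xK, rfl⟩).1) :
    HasSectionAt D (xK (default : Spec (CommRingCat.of K))) := by
  obtain ⟨σ, hσ⟩ := exists_sec_of_refinement D hπ₅ ν
  refine ⟨U, w, inferInstance, σ, ?_⟩
  have h5 : (z5 ≫ π₅) ≫ w = (z5 ≫ e₅) ≫ g :=
    (Category.assoc _ _ _).trans ((congrArg (z5 ≫ ·) ν.comm).trans (Category.assoc _ _ _).symm)
  have h6 : (z5 ≫ π₅) ≫ w = (xK ≫ D.obj.hom) ≫ g := h5.trans h.symm
  have hev : (σ.eval (i := PUnit.unit) (z5 ≫ π₅) (xK ≫ D.obj.hom) h6).1 = xK := by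
    refine ((congrArg Subtype.val (σ.eval_compat (i := PUnit.unit) (j := PUnit.unit) (z5 ≫ π₅) (z5 ≫ e₅)
      (xK ≫ D.obj.hom) h5 h6)).symm).trans ?_
    refine (φ_congr D rfl rfl (h5.symm.trans h6) h.symm _ (D.φ (xK ≫ D.obj.hom) (z5 ≫ e₅) h ⟨xK, rfl⟩)
      ((hσ z5 h5).trans hv)).trans ?_
    rw [D.φ_comp, D.φ_self]
  refine ⟨pullback.lift (z5 ≫ π₅) (xK ≫ D.obj.hom) h6 (default : Spec (CommRingCat.of K)), ?_⟩
  rw [← Scheme.Hom.comp_apply]
  show (σ.eval (i := PUnit.unit) (z5 ≫ π₅) (xK ≫ D.obj.hom) h6).1 default = _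
  rw [hev]
  rfl

set_option maxHeartbeats 1000000 in
/-- Points over an affine étale scheme with an affine open covering lifting to the source have sections. -/
theorem hasSectionAt_of_open_cover (D : Desc.SchDD g) [IsSeparated D.obj.hom] [Etale D.obj.hom]
    {T Z : Scheme.{u}} [IsAffine T] [IsAffine Z] (jT : T ⟶ S) [Etale jT]
    (π : Z ⟶ T) [UniversallyOpen π] [Surjective π] (e : Z ⟶ S') (he : π ≫ jT = e ≫ g)
    (x : D.obj.left) (hx : g (D.obj.hom x) ∈ Set.range jT) : HasSectionAt D x := by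
  let pE : pullback D.obj.hom e ⟶ Z := pullback.snd D.obj.hom e
  haveI : QuasiCompact π := inferInstance
  have hπ := univSSubtrusive_of_universallyOpen π
  have heq : ∀ {T' : Scheme.{u}} {z₀ z₁ : T' ⟶ Z}, z₀ ≫ π = z₁ ≫ π → (z₀ ≫ e) ≫ g = (z₁ ≫ e) ≫ g := by
    intro T' z₀ z₁ h
    rw [Category.assoc, Category.assoc, ← he, reassoc_of% h]
  -- translations of the pulled back object
  let tr : ∀ {T' : Scheme.{u}} (v : T' ⟶ pullback D.obj.hom e) (z : T' ⟶ Z),
      (v ≫ pE) ≫ π = z ≫ π → (T' ⟶ pullback D.obj.hom e) := fun {T'} v z h =>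
    transPt D e (v ≫ pE) z (heq h) ⟨v ≫ pullback.fst D.obj.hom e, by
      simp only [pE, Category.assoc, pullback.condition]⟩
  have tr_snd : ∀ {T' : Scheme.{u}} (v : T' ⟶ pullback D.obj.hom e) (z : T' ⟶ Z) h, tr v z h ≫ pE = z :=
    fun v z h => pullback.lift_snd _ _ _
  have tr_nat : ∀ {T' T'' : Scheme.{u}} (c : T'' ⟶ T') (v : T' ⟶ pullback D.obj.hom e) (z : T' ⟶ Z) h
      (v' : T'' ⟶ pullback D.obj.hom e) (z' : T'' ⟶ Z) (_ : c ≫ v = v') (_ : c ≫ z = z') h',
      c ≫ tr v z h = tr v' z' h' := fun c v z h v' z' hv hz h' =>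
    transPt_comp D e c _ _ _ _ _ _ (by rw [← hv, Category.assoc]) hz _ _ (by
      show v' ≫ pullback.fst D.obj.hom e = c ≫ v ≫ pullback.fst D.obj.hom e
      rw [← hv, Category.assoc])
  have tr_self : ∀ {T' : Scheme.{u}} (v : T' ⟶ pullback D.obj.hom e) (h : (v ≫ pE) ≫ π = (v ≫ pE) ≫ π),
      tr v (v ≫ pE) h = v := fun v h => by
    apply pullback.hom_ext
    · simp only [tr, transPt, pullback.lift_fst, D.φ_self]
    · exact tr_snd v (v ≫ pE) h
  have tr_comp : ∀ {T' : Scheme.{u}} (v : T' ⟶ pullback D.obj.hom e) (z₁ z₂ : T' ⟶ Z) h₁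
      (v₁ : T' ⟶ pullback D.obj.hom e) (_ : v₁ = tr v z₁ h₁) h₂ h₃, tr v₁ z₂ h₂ = tr v z₂ h₃ := by
    rintro T' v z₁ z₂ h₁ v₁ rfl h₂ h₃
    apply pullback.hom_ext
    · simp only [tr, transPt, pullback.lift_fst]
      refine (φ_congr D (congrArg (· ≫ e) (tr_snd v z₁ h₁)) rfl _ (heq (((congrArg (· ≫ π) (tr_snd v z₁ h₁)).symm).trans h₂)) _
        (D.φ ((v ≫ pE) ≫ e) (z₁ ≫ e) (heq h₁) ⟨v ≫ pullback.fst D.obj.hom e, by
          simp only [pE, Category.assoc, pullback.condition]⟩) rfl).trans ?_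
      rw [D.φ_comp]
    · exact (tr_snd _ _ h₂).trans (tr_snd _ _ h₃).symm
  let P := pullback (pE ≫ π) π
  let f₁ : P ⟶ pullback D.obj.hom e := pullback.fst (pE ≫ π) π
  let y₁ : P ⟶ Z := pullback.snd (pE ≫ π) π
  have hfy : (f₁ ≫ pE) ≫ π = y₁ ≫ π := (Category.assoc _ _ _).trans pullback.condition
  let θ : P ⟶ pullback D.obj.hom e := tr f₁ y₁ hfy
  let sw : P ⟶ P := pullback.lift θ (f₁ ≫ pE) (by rw [← Category.assoc, tr_snd f₁ y₁ hfy]; exact hfy.symm)
  have hsw : sw ≫ θ = f₁ := by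
    rw [tr_nat sw f₁ y₁ hfy θ (f₁ ≫ pE) (pullback.lift_fst _ _ _) (pullback.lift_snd _ _ _)
      (by rw [tr_snd f₁ y₁ hfy]; exact hfy.symm),
      tr_comp f₁ y₁ (f₁ ≫ pE) hfy θ rfl (by rw [tr_snd f₁ y₁ hfy]; exact hfy.symm) rfl, tr_self f₁ rfl]
  have hswf : sw ≫ f₁ = θ := pullback.lift_fst _ _ _
  haveI : UniversallyOpen f₁ := inferInstance
  haveI : QuasiCompact f₁ := MorphismProperty.pullback_fst _ _ ‹QuasiCompact π›
  -- a point over the given one
  obtain ⟨t₀, ht₀⟩ := hx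
  obtain ⟨z₀, hz₀⟩ := π.surjective t₀
  obtain ⟨p, -, hp₂⟩ := Scheme.Pullback.exists_preimage_pullback (f := π ≫ jT) (g := D.obj.hom ≫ g) z₀ x
    (by rw [Scheme.Hom.comp_apply, Scheme.Hom.comp_apply, hz₀, ht₀])
  let PP := pullback (π ≫ jT) (D.obj.hom ≫ g)
  let y := PP.fromSpecResidueField p
  let zK := y ≫ pullback.fst (π ≫ jT) (D.obj.hom ≫ g)
  let xK := y ≫ pullback.snd (π ≫ jT) (D.obj.hom ≫ g)
  have hxz : (xK ≫ D.obj.hom) ≫ g = (zK ≫ e) ≫ g := by
    simp only [xK, zK, Category.assoc, ← he]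
    exact congrArg (y ≫ ·) pullback.condition.symm
  have hxKx : xK (default : Spec (CommRingCat.of (PP.residueField p))) = x := by
    rw [Scheme.Hom.comp_apply]
    erw [Scheme.fromSpecResidueField_apply]
    exact hp₂
  let vK : Desc.Lifts D.obj (zK ≫ e) := D.φ (xK ≫ D.obj.hom) (zK ≫ e) hxz ⟨xK, rfl⟩
  let yE : Spec (CommRingCat.of (PP.residueField p)) ⟶ pullback D.obj.hom e := pullback.lift vK.1 zK vK.2
  -- a stable quasi-compact open piece
  obtain ⟨V, hV, hyV, -⟩ := exists_isAffineOpen_mem_and_subset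
    (x := yE (default : Spec (CommRingCat.of (PP.residueField p)))) (U := ⊤) trivial
  let W : (pullback D.obj.hom e).Opens := ⟨f₁ '' (θ ⁻¹' (V : Set _)),
    f₁.isOpenMap _ (V.isOpen.preimage (Scheme.Hom.continuous _))⟩
  have hWθ : (W : Set _) = θ '' (f₁ ⁻¹' (V : Set _)) := by
    show f₁ '' (θ ⁻¹' (V : Set _)) = _
    refine Set.Subset.antisymm ?_ ?_
    · rintro _ ⟨q, hq, rfl⟩
      exact ⟨sw q, by refine Set.mem_preimage.2 ?_; rw [← Scheme.Hom.comp_apply, hswf]; exact hq,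
        by rw [← Scheme.Hom.comp_apply, hsw]⟩
    · rintro _ ⟨q, hq, rfl⟩
      exact ⟨sw q, by refine Set.mem_preimage.2 ?_; rw [← Scheme.Hom.comp_apply, hsw]; exact hq,
        by rw [← Scheme.Hom.comp_apply, hswf]⟩
  haveI : CompactSpace W.toScheme := isCompact_iff_compactSpace.mp (by
    rw [hWθ]; exact (QuasiCompact.isCompact_preimage (f := f₁) _ V.isOpen hV.isCompact).image θ.continuous)
  have hWstab : ∀ q : P, f₁ q ∈ W → θ q ∈ W := by
    intro q hq
    obtain ⟨q₀, hq₀, hqq⟩ := hq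
    obtain ⟨r, hr₀, hr⟩ := Scheme.Pullback.exists_preimage_pullback (f := f₁) (g := f₁) q₀ q hqq
    let P2 := pullback f₁ f₁
    let yr := P2.fromSpecResidueField r
    let r₀ := yr ≫ pullback.fst f₁ f₁
    let r₁ := yr ≫ pullback.snd f₁ f₁
    have hrr : r₀ ≫ f₁ = r₁ ≫ f₁ := by simp only [r₀, r₁, Category.assoc, pullback.condition]
    have hθ₁ : r₁ ≫ θ ≫ pE ≫ π = (r₀ ≫ y₁) ≫ π := by
      rw [← Category.assoc θ, tr_snd f₁ y₁ hfy, ← hfy, Category.assoc f₁, ← Category.assoc r₁, ← hrr,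
        Category.assoc r₀]
      exact (congrArg (r₀ ≫ ·) ((Category.assoc _ _ _).symm.trans hfy)).trans (Category.assoc _ _ _).symm
    let q₂ := pullback.lift (r₁ ≫ θ) (r₀ ≫ y₁) ((Category.assoc _ _ _).trans hθ₁)
    have h0 : ((r₀ ≫ f₁) ≫ pE) ≫ π = (r₀ ≫ y₁) ≫ π := by
      simp only [Category.assoc]; exact congrArg (r₀ ≫ ·) ((Category.assoc _ _ _).symm.trans hfy)
    have h1 : ((r₁ ≫ θ) ≫ pE) ≫ π = (r₀ ≫ y₁) ≫ π := by simpa only [Category.assoc] using hθ₁
    have h2 : ((r₀ ≫ f₁) ≫ pE) ≫ π = (r₁ ≫ y₁) ≫ π := by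
      rw [hrr]; simp only [Category.assoc]; exact congrArg (r₁ ≫ ·) ((Category.assoc _ _ _).symm.trans hfy)
    have hq₂ : q₂ ≫ θ = r₀ ≫ θ := by
      rw [tr_nat q₂ f₁ y₁ hfy (r₁ ≫ θ) (r₀ ≫ y₁) (pullback.lift_fst _ _ _) (pullback.lift_snd _ _ _) h1,
        tr_nat r₀ f₁ y₁ hfy (r₀ ≫ f₁) (r₀ ≫ y₁) rfl rfl h0]
      exact tr_comp (r₀ ≫ f₁) (r₁ ≫ y₁) (r₀ ≫ y₁) h2 _
        (tr_nat r₁ f₁ y₁ hfy (r₀ ≫ f₁) (r₁ ≫ y₁) hrr.symm rfl h2) h1 h0
    refine ⟨q₂ (default : Spec (CommRingCat.of (P2.residueField r))), ?_, ?_⟩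
    · refine Set.mem_preimage.2 ?_
      rw [← Scheme.Hom.comp_apply, hq₂]
      simp only [r₀, Scheme.Hom.comp_apply, yr]
      erw [Scheme.fromSpecResidueField_apply]
      erw [hr₀]
      exact hq₀
    · rw [← Scheme.Hom.comp_apply, pullback.lift_fst]
      simp only [r₁, Scheme.Hom.comp_apply, yr]
      erw [Scheme.fromSpecResidueField_apply]
      erw [hr]
  -- the sub-datum along the covering
  let EW : Over Z := Over.mk (W.ι ≫ pE)
  let gW : pullback (EW.hom ≫ π) π ⟶ P := pullback.map (EW.hom ≫ π) π (pE ≫ π) π W.ι (𝟙 _) (𝟙 _)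
    (by simp [EW]) (by simp)
  let θW : pullback (EW.hom ≫ π) π ⟶ W.toScheme := IsOpenImmersion.lift W.ι (gW ≫ θ) (by
    rintro _ ⟨q, rfl⟩
    rw [Scheme.Opens.range_ι, Scheme.Hom.comp_apply]
    refine hWstab _ ?_
    rw [← Scheme.Hom.comp_apply, show gW ≫ f₁ = pullback.fst (EW.hom ≫ π) π ≫ W.ι from pullback.lift_fst _ _ _,
      Scheme.Hom.comp_apply]
    exact (pullback.fst (EW.hom ≫ π) π q).2)
  have hθW : θW ≫ W.ι = gW ≫ θ := IsOpenImmersion.lift_fac _ _ _
  have hθWp : θW ≫ EW.hom = pullback.snd (EW.hom ≫ π) π := by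
    show θW ≫ W.ι ≫ pE = _
    rw [← Category.assoc, hθW, Category.assoc, tr_snd f₁ y₁ hfy]
    exact (pullback.lift_snd _ _ _).trans (Category.comp_id _)
  have hgW : ∀ {T' : Scheme.{u}} (a : T' ⟶ W.toScheme) (z : T' ⟶ Z) h h',
      pullback.lift (f := EW.hom ≫ π) (g := π) a z h ≫ θW ≫ W.ι = tr (a ≫ W.ι) z h' := by
    intro T' a z h h'
    rw [hθW, ← Category.assoc]
    exact tr_nat _ f₁ y₁ hfy (a ≫ W.ι) z (by simp [gW, f₁]) (by simp [gW, y₁]) h'
  let E : Desc.SchDD π := dataOfIso θW hθWp (by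
      rw [← cancel_mono W.ι, Category.assoc]
      refine (hgW (𝟙 _) EW.hom (Category.id_comp _) ?_).trans ?_
      · simp [EW]
      · refine Eq.trans ?_ ((tr_self (𝟙 _ ≫ W.ι) ?_).trans rfl)
        · congr 1
        · simp [EW]) (by
      let Q := pullback (pullback.fst (EW.hom ≫ π) π ≫ EW.hom ≫ π) π
      let a : Q ⟶ pullback (EW.hom ≫ π) π := pullback.fst _ _
      let z₂ : Q ⟶ Z := pullback.snd _ _
      refine (cancel_mono W.ι).1 ((Category.assoc _ _ _).trans (Eq.trans ?_ (Category.assoc _ _ _).symm))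
      have e₀ : ((((a ≫ pullback.fst (EW.hom ≫ π) π) ≫ W.ι)) ≫ pE) ≫ π = z₂ ≫ π := by
        simp only [Category.assoc]; exact pullback.condition
      have e₁ : ((((a ≫ pullback.fst (EW.hom ≫ π) π) ≫ W.ι)) ≫ pE) ≫ π =
          (a ≫ pullback.snd (EW.hom ≫ π) π) ≫ π := by
        simp only [Category.assoc]; exact congrArg (a ≫ ·) pullback.condition
      have e₂ : (((a ≫ θW) ≫ W.ι) ≫ pE) ≫ π = z₂ ≫ π := by
        rw [← e₀]; simp only [Category.assoc]
        refine congrArg (a ≫ ·) ?_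
        show θW ≫ EW.hom ≫ π = pullback.fst (EW.hom ≫ π) π ≫ EW.hom ≫ π
        rw [reassoc_of% hθWp]; exact pullback.condition.symm
      refine (hgW _ _ _ e₂).trans (Eq.trans ?_ (hgW _ _ _ e₀).symm)
      refine tr_comp _ (a ≫ pullback.snd (EW.hom ≫ π) π) z₂ e₁ _ ?_ e₂ e₀
      rw [Category.assoc, hθW, ← Category.assoc]
      exact tr_nat _ f₁ y₁ hfy _ _ (by simp [gW, f₁]) (by simp [gW, y₁]) e₁)
  haveI : IsSeparated E.obj.hom := inferInstanceAs (IsSeparated (W.ι ≫ pE))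
  haveI : Etale E.obj.hom := inferInstanceAs (Etale (W.ι ≫ pE))
  haveI : QuasiCompact E.obj.hom := (quasiCompact_iff_compactSpace (W.ι ≫ pE)).2 inferInstance
  -- the given point lies in the piece
  have hyW : yE (default : Spec (CommRingCat.of (PP.residueField p))) ∈ W := by
    let q : Spec (CommRingCat.of (PP.residueField p)) ⟶ P := pullback.lift yE (yE ≫ pE) (Category.assoc _ _ _).symm
    refine ⟨q default, ?_, by rw [← Scheme.Hom.comp_apply, pullback.lift_fst]⟩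
    refine Set.mem_preimage.2 ?_
    rw [← Scheme.Hom.comp_apply, tr_nat q f₁ y₁ hfy yE (yE ≫ pE) (pullback.lift_fst _ _ _)
      (pullback.lift_snd _ _ _) rfl, tr_self yE rfl]
    exact hyV
  let xW : W.toScheme := ⟨_, hyW⟩
  obtain ⟨U, w, hw, σW, hσW⟩ := hasSectionAt_of_affine_cover E (𝟙 T) π hπ (𝟙 Z) (by simp) xW
    ⟨_, rfl⟩
  haveI := hw
  let Z₅ := pullback w π
  let π₅ : Z₅ ⟶ U := pullback.fst w π
  let e₅ : Z₅ ⟶ S' := pullback.snd w π ≫ e
  let val5 : Z₅ ⟶ pullback D.obj.hom e := σW.val PUnit.unit ≫ W.ι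
  have hval5 : val5 ≫ pE = pullback.snd w π := by
    exact (Category.assoc _ _ _).trans (σW.over_ PUnit.unit)
  let ν : RefSec D (w ≫ jT) π₅ e₅ :=
    { val := val5 ≫ pullback.fst D.obj.hom e
      over_ := by
        rw [Category.assoc, pullback.condition, ← Category.assoc]
        exact congrArg (· ≫ e) hval5
      comm := by
        show pullback.fst w π ≫ w ≫ jT = (pullback.snd w π ≫ e) ≫ g
        rw [pullback.condition_assoc, he, Category.assoc]
      compat := fun T' z₀ z₁ hz h v hv => by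
        let a := z₀ ≫ π₅
        let x₀ := z₀ ≫ pullback.snd w π
        let x₁ := z₁ ≫ pullback.snd w π
        have f₀ : a ≫ w = x₀ ≫ π := by simp only [a, x₀, π₅, Category.assoc, pullback.condition]
        have f₁' : a ≫ w = x₁ ≫ π := by
          simp only [a]; rw [hz]; simp only [x₁, π₅, Category.assoc, pullback.condition]
        have hc := σW.compat (i := PUnit.unit) (j := PUnit.unit) a x₀ x₁ f₀ f₁'
        have hl₀ : pullback.lift a x₀ f₀ = z₀ := by apply pullback.hom_ext <;> simp [a, x₀, π₅]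
        have hl₁ : pullback.lift a x₁ f₁' = z₁ := by
          apply pullback.hom_ext
          · rw [pullback.lift_fst]; exact hz
          · rw [pullback.lift_snd]
        have hh : ∀ (l₀ l₁ : T' ⟶ Z₅) (_ : l₀ = z₀) (_ : l₁ = z₁) (hx : x₀ ≫ π = x₁ ≫ π)
            (b : Desc.Lifts E.obj x₀), b.1 = l₀ ≫ σW.val PUnit.unit →
            (E.φ x₀ x₁ hx b).1 = l₁ ≫ σW.val PUnit.unit →
            (D.φ (z₀ ≫ e₅) (z₁ ≫ e₅) h v).1 = z₁ ≫ val5 ≫ pullback.fst D.obj.hom e := by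
          rintro l₀ l₁ rfl rfl hx b hb hφ
          have hφ' := congrArg (· ≫ W.ι ≫ pullback.fst D.obj.hom e) hφ
          simp only [val5, Category.assoc] at hφ' ⊢
          refine Eq.trans ?_ hφ'
          have h' : ((b.1 ≫ W.ι) ≫ pE) ≫ π = x₁ ≫ π := by
            exact (congrArg (· ≫ π) ((Category.assoc _ _ _).trans b.2)).trans hx
          refine Eq.trans ?_ ((congrArg (· ≫ pullback.fst D.obj.hom e)
            (hgW b.1 x₁ ((Category.assoc _ _ _).symm.trans ((congrArg (· ≫ π) b.2).trans hx)) h')).symm.trans (Category.assoc _ _ _))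
          simp only [tr, transPt, pullback.lift_fst]
          refine φ_congr D ?_ (Category.assoc _ _ _).symm _ _ _ _ ?_
          · show _ = ((b.1 ≫ W.ι) ≫ pE) ≫ e
            rw [show (b.1 ≫ W.ι) ≫ pE = x₀ from (Category.assoc _ _ _).trans b.2]
            exact (Category.assoc _ _ _).symm
          · rw [hv, hb]; simp only [val5, Category.assoc]
        exact hh _ _ hl₀ hl₁ _ _ rfl hc }
  have hπ₅ : SGA1.UnivSubmersive π₅ :=
    MorphismProperty.pullback_fst _ _ (Subtr12.univSubmersive_of_univSSubtrusive π hπ)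
  obtain ⟨q5, hq5⟩ := hσW
  let yW : Spec (CommRingCat.of (PP.residueField p)) ⟶ W.toScheme := IsOpenImmersion.lift W.ι yE (by
    rintro _ ⟨q, rfl⟩
    rw [Scheme.Opens.range_ι, Subsingleton.elim q default]; exact hyW)
  have hyWι : yW ≫ W.ι = yE := IsOpenImmersion.lift_fac _ _ _
  have hyx : yW (default : Spec (CommRingCat.of (PP.residueField p))) = xW := by
    apply W.ι.isOpenEmbedding.injective
    rw [← Scheme.Hom.comp_apply, hyWι]
    rfl
  let σv : Z₅ ⟶ W.toScheme := σW.val PUnit.unit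
  obtain ⟨r, -, hr⟩ := Scheme.Pullback.exists_preimage_pullback (f := σv) (g := yW) q5
    (default : Spec (CommRingCat.of (PP.residueField p))) (hq5.trans hyx.symm)
  let R := pullback σv yW
  let yr := R.fromSpecResidueField r
  let z5 : Spec (CommRingCat.of (R.residueField r)) ⟶ Z₅ := yr ≫ pullback.fst σv yW
  let xL := (yr ≫ pullback.snd σv yW) ≫ xK
  have hzK : z5 ≫ pullback.snd w π = (yr ≫ pullback.snd σv yW) ≫ zK := by
    rw [← hval5]
    simp only [z5, val5, Category.assoc, σv, pullback.condition_assoc]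
    rw [reassoc_of% hyWι]
    exact congrArg (yr ≫ ·) (congrArg (pullback.snd σv yW ≫ ·) (pullback.lift_snd _ _ _))
  have hzv : z5 ≫ val5 = (yr ≫ pullback.snd σv yW) ≫ yE := by
    simp only [z5, val5, Category.assoc, σv, pullback.condition_assoc, hyWι]
  have hL : (xL ≫ D.obj.hom) ≫ g = (z5 ≫ e₅) ≫ g := by
    simp only [e₅]
    rw [← Category.assoc z5, hzK]
    simp only [xL, Category.assoc] at hxz ⊢
    exact congrArg (yr ≫ ·) (congrArg (pullback.snd σv yW ≫ ·) hxz)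
  have hfin := hasSectionAt_of_refSec D (w ≫ jT) hπ₅ ν z5 xL hL (by
    show z5 ≫ val5 ≫ pullback.fst D.obj.hom e = _
    rw [← Category.assoc, hzv, Category.assoc, pullback.lift_fst]
    let c := yr ≫ pullback.snd σv yW
    have h' : (c ≫ xK ≫ D.obj.hom) ≫ g = (c ≫ zK ≫ e) ≫ g :=
      (Category.assoc _ _ _).trans ((congrArg (c ≫ ·) hxz).trans (Category.assoc _ _ _).symm)
    refine (D.φ_natural c (xK ≫ D.obj.hom) (zK ≫ e) hxz h' ⟨xK, rfl⟩
      ⟨c ≫ xK, Category.assoc _ _ _⟩ rfl).symm.trans ?_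
    refine φ_congr D (Category.assoc _ _ _).symm ?_ _ _ _ _ rfl
    rw [← Category.assoc, ← hzK, Category.assoc])
  have : xL (default : Spec (CommRingCat.of (R.residueField r))) = x := by
    rw [← hxKx, Scheme.Hom.comp_apply]
    exact congrArg xK (Subsingleton.elim _ _)
  exact (congrArg (HasSectionAt D) this).mp hfin

/-- Descent of separated étale schemes along universally open surjections. -/
theorem exists_effective_of_universallyOpen [UniversallyOpen g] [Surjective g]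
    (D : Desc.SchDD g) [IsSeparated D.obj.hom] [Etale D.obj.hom] :
    ∃ U : Over S, IsSeparated U.hom ∧ Etale U.hom ∧ Nonempty ((Desc.toDD g).obj U ≅ D) := by
  obtain ⟨U, h₁, h₂, -, h₄⟩ := exists_effective (univSubmersive_of_universallyOpen g) D fun x => by
    obtain ⟨V, hV, hsV, -⟩ := exists_isAffineOpen_mem_and_subset (x := g (D.obj.hom x)) (U := ⊤) trivial
    haveI : IsAffine (V : Scheme.{u}) := hV
    haveI : UniversallyOpen (g ∣_ V) :=
      MorphismProperty.of_isPullback (isPullback_morphismRestrict g V).flip ‹UniversallyOpen g›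
    haveI : Surjective (g ∣_ V) :=
      MorphismProperty.of_isPullback (isPullback_morphismRestrict g V).flip ‹Surjective g›
    let 𝒰 := (g ⁻¹ᵁ V).toScheme.affineCover
    let c := fun i : 𝒰.I₀ => 𝒰.f i ≫ g ∣_ V
    have hcov : (⋃ i, Set.range (c i)) = Set.univ := by
      refine Set.eq_univ_of_forall fun v => ?_
      obtain ⟨q, rfl⟩ := (g ∣_ V).surjective v
      obtain ⟨z, hz⟩ := 𝒰.covers q
      exact Set.mem_iUnion.2 ⟨_, z, by rw [Scheme.Hom.comp_apply, hz]⟩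
    obtain ⟨F, hF⟩ := isCompact_univ.elim_finite_subcover (fun i => Set.range (c i))
      (fun i => by
        haveI : UniversallyOpen (c i) := inferInstance
        exact (c i).isOpenMap.isOpen_range) hcov.ge
    haveI : ∀ i : ↥F, IsAffine (𝒰.X i.1) := fun i => inferInstanceAs (IsAffine ((g ⁻¹ᵁ V).toScheme.affineCover.X _))
    let Zf := fun i : ↥F => 𝒰.X i.1
    haveI : IsAffine (∐ Zf) := inferInstance
    let e₁ : (∐ Zf) ⟶ (g ⁻¹ᵁ V).toScheme := Sigma.desc fun i => 𝒰.f i.1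
    haveI : UniversallyOpen e₁ := IsZariskiLocalAtSource.sigmaDesc fun i => inferInstance
    haveI : Surjective (e₁ ≫ g ∣_ V) := ⟨fun v => by
      obtain ⟨i, hi, z, hz⟩ := Set.mem_iUnion₂.1 (hF (Set.mem_univ v))
      refine ⟨Sigma.ι Zf ⟨i, hi⟩ z, ?_⟩
      rw [← Scheme.Hom.comp_apply, ← Category.assoc, Sigma.ι_desc]
      exact hz⟩
    exact hasSectionAt_of_open_cover D V.ι (e₁ ≫ g ∣_ V) (e₁ ≫ (g ⁻¹ᵁ V).ι)
      (by rw [Category.assoc, Category.assoc, morphismRestrict_ι]) x ⟨⟨_, hsV⟩, rfl⟩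
  exact ⟨U, h₁, h₂, h₄⟩

end Groth.Agent.EtEff25
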