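import Groth.Agent.Lib.EtEff25.Effective

/-!
# Sections along a refinement of the covering morphism
-/

set_option autoImplicit false
set_option linter.style.haveILetI false
set_option backward.isDefEq.respectTransparency false
set_option backward.isDefEq.respectTransparency.types false
universe u

open CategoryTheory CategoryTheory.Limits AlgebraicGeometry

namespace Groth.Agent.EtEff25

open Groth.Agent.SchDesc12

variable {S S' Z : Scheme.{u}} {g : S' ⟶ S} {T : Scheme.{u}}

/-- Compatible values on a covering of `T` mapping to the source. -/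
structure RefSec (D : Desc.SchDD g) (t : T ⟶ S) (π : Z ⟶ T) (e : Z ⟶ S') where
  /-- the values -/
  val : Z ⟶ D.obj.left
  over_ : val ≫ D.obj.hom = e
  comm : π ≫ t = e ≫ g
  compat : ∀ ⦃T' : Scheme.{u}⦄ (z₀ z₁ : T' ⟶ Z) (_ : z₀ ≫ π = z₁ ≫ π)
    (h : (z₀ ≫ e) ≫ g = (z₁ ≫ e) ≫ g) (v : Desc.Lifts D.obj (z₀ ≫ e)),
    v.1 = z₀ ≫ val → (D.φ (z₀ ≫ e) (z₁ ≫ e) h v).1 = z₁ ≫ val

theorem φ_congr (D : Desc.SchDD g) {T : Scheme.{u}} {x₀ x₁ y₀ y₁ : T ⟶ S'} (e₀ : x₀ = y₀) (e₁ : x₁ = y₁)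
    (h : x₀ ≫ g = x₁ ≫ g) (h' : y₀ ≫ g = y₁ ≫ g) (v : Desc.Lifts D.obj x₀) (w : Desc.Lifts D.obj y₀)
    (hv : v.1 = w.1) : (D.φ x₀ x₁ h v).1 = (D.φ y₀ y₁ h' w).1 := by
  subst e₀ e₁
  rw [Subtype.ext hv]

variable {t : T ⟶ S} {π : Z ⟶ T} {e : Z ⟶ S'}

set_option maxHeartbeats 1000000 in
/-- Values on a universally submersive covering come from a section. -/
theorem exists_sec_of_refinement (D : Desc.SchDD g) [Etale D.obj.hom] (hπ : SGA1.UnivSubmersive π)
    (ν : RefSec D t π e) :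
    ∃ σ : Sec (famU D) t, ∀ ⦃T' : Scheme.{u}⦄ (z : T' ⟶ Z) (h' : (z ≫ π) ≫ t = (z ≫ e) ≫ g),
      (σ.eval (i := PUnit.unit) (z ≫ π) (z ≫ e) h').1 = z ≫ ν.val := by
  let p := pullback.fst t g
  let Q := pullback p π
  let g' : Q ⟶ pullback t g := pullback.fst p π
  have hg' : SGA1.UnivSubmersive g' := MorphismProperty.pullback_fst _ _ hπ
  let x₁ : Q ⟶ S' := g' ≫ pullback.snd t g
  let x₀ : Q ⟶ S' := pullback.snd p π ≫ e
  have hQ : x₀ ≫ g = x₁ ≫ g := by
    simp only [x₀, x₁, g', Category.assoc]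
    rw [← ν.comm, ← pullback.condition (f := t) (g := g), ← Category.assoc, ← Category.assoc (pullback.fst p π)]
    exact congrArg (· ≫ t) pullback.condition.symm
  let v₀ : Desc.Lifts D.obj x₀ := ⟨pullback.snd p π ≫ ν.val, by rw [Category.assoc, ν.over_]⟩
  let V := D.φ x₀ x₁ hQ v₀
  -- the value at arbitrary points of `Q`
  have hV : ∀ {T' : Scheme.{u}} (m : T' ⟶ Q) (z : T' ⟶ Z) (y₁ : T' ⟶ S') (hz : m ≫ pullback.snd p π = z)
      (hy₁ : m ≫ x₁ = y₁) (hy : (z ≫ e) ≫ g = y₁ ≫ g) (w : Desc.Lifts D.obj (z ≫ e))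
      (_ : w.1 = z ≫ ν.val), m ≫ V.1 = (D.φ (z ≫ e) y₁ hy w).1 := by
    intro T' m z y₁ hz hy₁ hy w hw
    have hn : (m ≫ x₀) ≫ g = (m ≫ x₁) ≫ g :=
      (Category.assoc _ _ _).trans ((congrArg (m ≫ ·) hQ).trans (Category.assoc _ _ _).symm)
    rw [← D.φ_natural m x₀ x₁ hQ hn v₀ ⟨m ≫ v₀.1, by rw [Category.assoc, v₀.2]⟩ rfl]
    refine φ_congr D (by rw [← hz]; simp only [x₀, Category.assoc]) hy₁ _ _ _ _ ?_
    show m ≫ pullback.snd p π ≫ ν.val = w.1
    rw [← Category.assoc, hz, hw]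
  -- descend along `Q ⟶ pullback t g`
  let q := pullback.fst (pullback.snd t g) D.obj.hom
  haveI : Etale q := MorphismProperty.pullback_fst _ _ ‹Etale D.obj.hom›
  let φ : pullback (𝟙 (pullback t g)) g' ⟶ pullback (pullback.snd t g) D.obj.hom :=
    pullback.lift (pullback.snd (𝟙 _) g' ≫ g') (pullback.snd (𝟙 _) g' ≫ V.1) (by
      rw [Category.assoc, Category.assoc, V.2])
  obtain ⟨u, ⟨hu₁, hu₂⟩, -⟩ := UnivSubm25.exists_desc_etale (𝟙 (pullback t g)) q g' hg' φ
    (pullback.lift_fst _ _ _) (by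
      intro T' z s₁ s₂ h₁ h₂
      have hs : s₁ ≫ g' = s₂ ≫ g' := h₁.symm.trans h₂
      apply pullback.hom_ext
      · simp only [φ, Category.assoc, pullback.lift_fst, pullback.lift_snd_assoc]
        exact hs
      · simp only [φ, Category.assoc, pullback.lift_snd, pullback.lift_snd_assoc]
        let z₁ := s₁ ≫ pullback.snd p π
        let z₂ := s₂ ≫ pullback.snd p π
        have hzπ : z₁ ≫ π = z₂ ≫ π := by
          simp only [z₁, z₂, Category.assoc, ← pullback.condition]
          rw [← Category.assoc, ← Category.assoc]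
          exact congrArg (· ≫ p) hs
        have hy : s₂ ≫ x₁ = s₁ ≫ x₁ := by
          simp only [x₁, ← Category.assoc]
          exact congrArg (· ≫ pullback.snd t g) hs.symm
        have hgx : ∀ (s : T' ⟶ Q), ((s ≫ pullback.snd p π) ≫ e) ≫ g = (s ≫ x₁) ≫ g := fun s => by
          rw [Category.assoc s x₁ g, ← hQ]
          simp only [x₀, Category.assoc]
        have h12 : (z₁ ≫ e) ≫ g = (z₂ ≫ e) ≫ g := by
          simp only [z₁, z₂]; rw [hgx s₁, hgx s₂, hy]
        let w₁ : Desc.Lifts D.obj (z₁ ≫ e) := ⟨z₁ ≫ ν.val, by rw [Category.assoc, ν.over_]⟩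
        let w₂ : Desc.Lifts D.obj (z₂ ≫ e) := ⟨z₂ ≫ ν.val, by rw [Category.assoc, ν.over_]⟩
        rw [hV s₁ z₁ _ rfl rfl (hgx s₁) w₁ rfl,
          hV s₂ z₂ _ rfl hy ((hgx s₂).trans (congrArg (· ≫ g) hy)) w₂ rfl]
        have hc := ν.compat z₁ z₂ hzπ h12 w₁ rfl
        rw [← D.φ_comp _ _ _ h12 ((hgx s₂).trans (congrArg (· ≫ g) hy)) w₁]
        exact congrArg (fun k => (D.φ _ _ _ k).1) (Subtype.ext hc))
  let G : pullback t g ⟶ D.obj.left := u ≫ pullback.snd (pullback.snd t g) D.obj.hom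
  have hGo : G ≫ D.obj.hom = pullback.snd t g := by
    simp only [G, Category.assoc]
    rw [← pullback.condition, ← Category.assoc]
    exact (congrArg (· ≫ pullback.snd t g) hu₁).trans (Category.id_comp _)
  have hGV : g' ≫ G = V.1 := by
    have h := congrArg (fun m => pullback.lift g' (𝟙 Q) (by simp) ≫ m ≫ pullback.snd _ _) hu₂
    simp only [φ, pullback.lift_snd, pullback.lift_snd_assoc, Category.id_comp] at h
    rw [h]
    simp only [G, Category.assoc, pullback.lift_fst_assoc]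
  let σ : Sec (famU D) t :=
    { val := fun _ => G
      over_ := fun _ => hGo
      compat := fun T' i j a y₀ y₁ h₀ h₁ => by
        -- check after a submersive surjective base change
        let r := pullback.fst a π
        have hr : SGA1.UnivSubmersive r := MorphismProperty.pullback_fst _ _ hπ
        let z := pullback.snd a π
        have hze : ∀ (y : T' ⟶ S') (_ : a ≫ t = y ≫ g), (z ≫ e) ≫ g = (r ≫ y) ≫ g := fun y hy => by
          rw [Category.assoc, ← ν.comm, Category.assoc r y g, ← hy, ← Category.assoc, ← Category.assoc]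
          exact congrArg (· ≫ t) pullback.condition.symm
        have hval : ∀ (y : T' ⟶ S') (hy : a ≫ t = y ≫ g),
            r ≫ pullback.lift a y hy ≫ G = (D.φ (z ≫ e) (r ≫ y) (hze y hy)
              ⟨z ≫ ν.val, by rw [Category.assoc, ν.over_]⟩).1 := by
          intro y hy
          let m : pullback a π ⟶ Q := pullback.lift (r ≫ pullback.lift a y hy) z (by
            simp only [p, Category.assoc, pullback.lift_fst]; exact pullback.condition)
          rw [show r ≫ pullback.lift a y hy ≫ G = m ≫ g' ≫ G by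
            simp only [m, g', pullback.lift_fst_assoc, Category.assoc], hGV]
          refine hV m z (r ≫ y) ?_ ?_ (hze y hy) _ rfl
          · simp only [m, pullback.lift_snd]
          · simp only [m, x₁, g', pullback.lift_fst_assoc, Category.assoc, pullback.lift_snd]
        haveI : Surjective r := surjective_of_univSubmersive hr
        refine UnivSubm25.hom_ext_of_surjective D.obj.hom _ _ ?_ r ?_
        · refine ((famU D).φ (i := i) (j := j) y₀ y₁ _ _).2.trans ?_
          exact ((Category.assoc _ _ _).trans ((congrArg (pullback.lift a y₁ h₁ ≫ ·) hGo).trans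
            (pullback.lift_snd _ _ _))).symm
        · have h01 : y₀ ≫ g = y₁ ≫ g := h₀.symm.trans h₁
          have hr01 : (r ≫ y₀) ≫ g = (r ≫ y₁) ≫ g := by rw [Category.assoc, h01, Category.assoc]
          show r ≫ (D.φ y₀ y₁ h01 ⟨pullback.lift a y₀ h₀ ≫ G, _⟩).1 = _
          rw [← D.φ_natural r y₀ y₁ h01 hr01 _ ⟨r ≫ pullback.lift a y₀ h₀ ≫ G, by
            rw [Category.assoc, Category.assoc, hGo, pullback.lift_snd]⟩ rfl, hval y₁ h₁]
          rw [← D.φ_comp (z ≫ e) (r ≫ y₀) (r ≫ y₁) (hze y₀ h₀) hr01]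
          exact congrArg (fun k => (D.φ _ _ _ k).1) (Subtype.ext (hval y₀ h₀)) }
  refine ⟨σ, fun T' z h' => ?_⟩
  let m : T' ⟶ Q := pullback.lift (pullback.lift (z ≫ π) (z ≫ e) h') z (by
    simp only [p, pullback.lift_fst])
  show pullback.lift (z ≫ π) (z ≫ e) h' ≫ G = _
  rw [show pullback.lift (z ≫ π) (z ≫ e) h' = m ≫ g' from (pullback.lift_fst _ _ _).symm, Category.assoc, hGV]
  rw [hV m z (z ≫ e) (pullback.lift_snd _ _ _)
    (by simp only [m, x₁, g', pullback.lift_fst_assoc, pullback.lift_snd]) rfl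
    ⟨z ≫ ν.val, by rw [Category.assoc, ν.over_]⟩ rfl]
  rw [D.φ_self]

end Groth.Agent.EtEff25
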