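import Groth.Agent.Lib.SchDesc12.Glue
import Groth.Prelude.Def_AlgSp3

/-!
# The sheaf of descended sections
-/

set_option autoImplicit false
set_option linter.style.haveILetI false
set_option backward.isDefEq.respectTransparency false
set_option backward.isDefEq.respectTransparency.types false
universe u

open CategoryTheory CategoryTheory.Limits AlgebraicGeometry Opposite

namespace Groth.Agent.EtEff25

open Groth.Agent.SchDesc12

variable {S : Scheme.{u}} {ι : Type u} {X : ι → Scheme.{u}} {f : ∀ i, X i ⟶ S}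

/-- Restriction twice. -/
theorem pull_pull {D : Desc.SchDDFam f} {T T' T'' : Scheme.{u}} {t : T ⟶ S} (σ : Sec D t) (a : T' ⟶ T)
    {t' : T' ⟶ S} (e : a ≫ t = t') (b : T'' ⟶ T') {t'' : T'' ⟶ S} (e' : b ≫ t' = t'') (c : T'' ⟶ T)
    (hc : b ≫ a = c) (e'' : c ≫ t = t'') : (σ.pull a e).pull b e' = σ.pull c e'' := by
  subst hc
  refine Sec.ext_eval _ fun Z i z x h => ?_
  rw [Sec.eval_pull, Sec.eval_pull, Sec.eval_pull]
  exact Sec.eval_congr σ (Category.assoc _ _ _) rfl _ _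

theorem pull_id {D : Desc.SchDDFam f} {T : Scheme.{u}} {t : T ⟶ S} (σ : Sec D t) (a : T ⟶ T)
    (ha : a = 𝟙 T) (e : a ≫ t = t) : σ.pull a e = σ := by
  subst ha
  refine Sec.ext_eval _ fun Z i z x h => ?_
  rw [Sec.eval_pull]
  exact Sec.eval_congr σ (Category.comp_id _) rfl _ _

/-- The presheaf of descended sections. -/
noncomputable def secPsh (D : Desc.SchDDFam f) : (Over S)ᵒᵖ ⥤ Type (u + 1) where
  obj T := ULift.{u + 1} (Sec D T.unop.hom)
  map {T T'} a := TypeCat.ofHom fun σ => ⟨σ.down.pull a.unop.left (Over.w a.unop)⟩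
  map_id T := by
    apply ConcreteCategory.hom_ext
    intro σ
    exact ULift.ext _ _ (pull_id σ.down (𝟙 _) rfl (Category.id_comp _))
  map_comp {T T' T''} a b := by
    apply ConcreteCategory.hom_ext
    intro σ
    exact ULift.ext _ _ (pull_pull σ.down a.unop.left (Over.w a.unop) b.unop.left (Over.w b.unop) _ rfl (Over.w (a ≫ b).unop)).symm

theorem secPsh_map (D : Desc.SchDDFam f) {T T' : Over S} (a : T' ⟶ T) (σ : Sec D T.hom) :
    ((secPsh D).map a.op ⟨σ⟩).down = σ.pull a.left (Over.w a) := rfl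

theorem isSheaf_secPsh (D : Desc.SchDDFam f) : Presheaf.IsSheaf (AlgSp.J S) (secPsh D) := by
  rw [isSheaf_iff_isSheaf_of_type]
  intro V R hR fam hfam
  rw [AlgSp.J_eq, GrothendieckTopology.mem_over_iff] at hR
  haveI : (@Flat ⊓ @LocallyOfFinitePresentation : MorphismProperty Scheme.{u}).ContainsIdentities :=
    ⟨fun X => ⟨inferInstanceAs (Flat (𝟙 X)), inferInstanceAs (LocallyOfFinitePresentation (𝟙 X))⟩⟩
  haveI : (@Flat ⊓ @LocallyOfFinitePresentation : MorphismProperty Scheme.{u}).IsMultiplicative :=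
    MorphismProperty.IsMultiplicative.mk
  obtain ⟨𝒰, h𝒰⟩ := Scheme.exists_cover_of_mem_grothendieckTopology
    (P := (@Flat ⊓ @LocallyOfFinitePresentation : MorphismProperty Scheme.{u})) hR
  have hu : Presieve.ofArrows 𝒰.X 𝒰.f ∈ Scheme.fpqcPrecoverage V.left :=
    Scheme.fppfPrecoverage_le_fpqcPrecoverage _ 𝒰.mem₀
  rw [Presieve.compatible_iff_sieveCompatible] at hfam
  have hpull : ∀ {Z Z' : Over S} (l : Z ⟶ V) (hl : R.arrows l) (m : Z' ⟶ Z) (l' : Z' ⟶ V)
      (hl' : R.arrows l'), m ≫ l = l' → (fam l' hl').down = (fam l hl).down.pull m.left (Over.w m) := by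
    intro Z Z' l hl m l' hl' e
    subst e
    exact congrArg ULift.down (hfam l m hl)
  have hmem : ∀ k, R.arrows (Over.homMk (𝒰.f k) : Over.mk (𝒰.f k ≫ V.hom) ⟶ V) := fun k =>
    (Sieve.overEquiv_iff R _).1 (h𝒰 _ _ ⟨k⟩)
  let σ : ∀ k, Sec D (𝒰.f k ≫ V.hom) := fun k => (fam _ (hmem k)).down
  have hcomp : ∀ {Z : Over S} {k : 𝒰.I₀} (l : Z ⟶ V) (hl : R.arrows l) (b : Z.left ⟶ 𝒰.X k)
      (hb : b ≫ 𝒰.f k = l.left),
      (fam l hl).down = (σ k).pull b (by rw [← Category.assoc, hb, Over.w l]) := by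
    intro Z k l hl b hb
    exact hpull _ (hmem k) (Over.homMk b (by
      show b ≫ 𝒰.f k ≫ V.hom = Z.hom
      rw [← Category.assoc, hb, Over.w l])) l hl (Over.OverMorphism.ext hb)
  obtain ⟨τ, hτ⟩ := Sec.exists_glue (t := V.hom) (fun k => 𝒰.f k) hu (fun k => rfl) σ (by
    intro k l Z a b hab i x e e'
    let ak : (Over.mk (a ≫ 𝒰.f k ≫ V.hom) : Over S) ⟶ Over.mk (𝒰.f k ≫ V.hom) := Over.homMk (U := Over.mk (a ≫ 𝒰.f k ≫ V.hom)) a rfl
    let bl : (Over.mk (a ≫ 𝒰.f k ≫ V.hom) : Over S) ⟶ Over.mk (𝒰.f l ≫ V.hom) :=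
      Over.homMk (U := Over.mk (a ≫ 𝒰.f k ≫ V.hom)) b (by
        show b ≫ 𝒰.f l ≫ V.hom = a ≫ 𝒰.f k ≫ V.hom
        rw [← Category.assoc, ← hab, Category.assoc])
    have h1 := hpull _ (hmem k) ak _ (R.downward_closed (hmem k) ak) rfl
    have h2 := hpull _ (hmem l) bl _ (R.downward_closed (hmem k) ak) (Over.OverMorphism.ext hab.symm)
    rw [h1] at h2
    have h3 := congrArg (fun ρ : Sec D (a ≫ 𝒰.f k ≫ V.hom) => (ρ.eval (𝟙 Z) x
      ((Category.id_comp _).trans e)).1) h2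
    simp only [Sec.eval_pull] at h3
    exact (Sec.eval_congr (σ k) (Category.id_comp a).symm rfl _ _).trans
      (h3.trans (Sec.eval_congr (σ l) (Category.id_comp b) rfl _ _)))
  refine ⟨⟨τ⟩, fun Z l hl => ?_, fun τ' hτ' => ?_⟩
  · refine ULift.ext _ _ ?_
    show τ.pull l.left (Over.w l) = (fam l hl).down
    refine Sec.ext_fpqc (fun k => pullback.fst l.left (𝒰.f k)) (pullback_fst_mem_fpqc _ hu _) ?_
    intro k T' i b x e
    let lk : (Over.mk (pullback.fst l.left (𝒰.f k) ≫ Z.hom) : Over S) ⟶ Z :=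
      Over.homMk (pullback.fst l.left (𝒰.f k)) rfl
    have h1 := hcomp (k := k) (lk ≫ l) (R.downward_closed hl lk) (pullback.snd l.left (𝒰.f k))
      pullback.condition.symm
    have h2 := hpull l hl lk (lk ≫ l) (R.downward_closed hl lk) rfl
    rw [h1] at h2
    have h3 := congrArg (fun ρ : Sec D (pullback.fst l.left (𝒰.f k) ≫ Z.hom) => (ρ.eval b x
      ((Category.assoc _ _ _).symm.trans e)).1) h2
    simp only [Sec.eval_pull] at h3
    rw [Sec.eval_pull]
    refine Eq.trans ?_ h3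
    have e' : ((b ≫ pullback.snd l.left (𝒰.f k)) ≫ 𝒰.f k) ≫ V.hom = x ≫ f i := by
      rw [Category.assoc b, ← pullback.condition, ← Category.assoc b, Category.assoc, Over.w l, e]
    refine Eq.trans ?_ (hτ k i (b ≫ pullback.snd l.left (𝒰.f k)) x e'
      (by rw [← e', Category.assoc _ (𝒰.f k)]))
    refine Sec.eval_congr τ ?_ rfl _ _
    rw [Category.assoc, Category.assoc, pullback.condition]
  · refine ULift.ext _ _ ?_
    refine Sec.ext_fpqc (fun k => 𝒰.f k) hu fun k T' i b x e => ?_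
    have e' : b ≫ 𝒰.f k ≫ V.hom = x ≫ f i := by rw [← Category.assoc, e]
    refine Eq.trans ?_ (hτ k i b x e e').symm
    have h : (τ' : ULift.{u + 1} (Sec D V.hom)).down.pull (𝒰.f k) (Over.w (Over.homMk (𝒰.f k) : Over.mk (𝒰.f k ≫ V.hom) ⟶ V)) = σ k :=
      congrArg ULift.down (hτ' _ (hmem k))
    have h3 := congrArg (fun ρ : Sec D (𝒰.f k ≫ V.hom) => (ρ.eval b x e').1) h
    simp only [Sec.eval_pull] at h3
    exact h3

/-- The sheaf of descended sections. -/
noncomputable def secSheaf (D : Desc.SchDDFam f) : AlgSp.Sp S := ⟨secPsh D, isSheaf_secPsh D⟩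

end Groth.Agent.EtEff25
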