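import Groth.Agent.Lib.EtEff25.Locus
import Groth.Agent.Lib.EtEff25.Sheaf
import Groth.Agent.Lib.AlgSpace.Base

/-!
# Descended sections of a separated étale datum have clopen representable equalizers
-/

set_option autoImplicit false
set_option linter.style.haveILetI false
set_option backward.isDefEq.respectTransparency false
set_option backward.isDefEq.respectTransparency.types false
universe u

open CategoryTheory CategoryTheory.Limits AlgebraicGeometry Opposite

namespace Groth.Agent.EtEff25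

open Groth.Agent.SchDesc12 AlgSp

variable {S : Scheme.{u}}

/-- Cartesian squares of sheaves checked on sections. -/
theorem isPullback_of_sections {P A B C : AlgSp.Sp S} (t : P ⟶ A) (l : P ⟶ B) (r : A ⟶ C) (b : B ⟶ C)
    (w : t ≫ r = l ≫ b)
    (hinj : ∀ (Z : (Over S)ᵒᵖ) (x y : P.obj.obj Z), t.hom.app Z x = t.hom.app Z y →
      l.hom.app Z x = l.hom.app Z y → x = y)
    (hex : ∀ (Z : (Over S)ᵒᵖ) (x : A.obj.obj Z) (y : B.obj.obj Z), r.hom.app Z x = b.hom.app Z y →
      ∃ p, t.hom.app Z p = x ∧ l.hom.app Z p = y) : IsPullback t l r b := by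
  refine IsPullback.of_map (sheafToPresheaf _ _) w (IsPullback.of_forall_isPullback_app fun Z => ?_)
  rw [Types.isPullback_iff]
  exact ⟨congrArg (fun m => (m : P ⟶ C).hom.app Z) w, fun x y h => hinj Z x y h.1 h.2, hex Z⟩

section Sheaf

variable {ι : Type u} {X : ι → Scheme.{u}} {f : ∀ i, X i ⟶ S} (D : Desc.SchDDFam f)

/-- The map given by a section. -/
noncomputable def homOfSec {T : Over S} (σ : Sec D T.hom) : (yon S).obj T ⟶ secSheaf D :=
  ⟨{ app := fun Z => TypeCat.ofHom fun b => ⟨σ.pull b.down.left (Over.w b.down)⟩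
     naturality := fun Z Z' a => by
      apply ConcreteCategory.hom_ext
      intro b
      exact ULift.ext _ _ (pull_pull σ b.down.left (Over.w b.down) a.unop.left (Over.w a.unop) _ rfl (Over.w (a.unop ≫ b.down))).symm }⟩

theorem homOfSec_app {T : Over S} (σ : Sec D T.hom) {Z : Over S} (b : Z ⟶ T) :
    ((homOfSec D σ).hom.app (op Z) ⟨b⟩).down = σ.pull b.left (Over.w b) := rfl

/-- The section of a map. -/
noncomputable def secOfHom {T : Over S} (g : (yon S).obj T ⟶ secSheaf D) : Sec D T.hom :=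
  (g.hom.app (op T) ⟨𝟙 T⟩).down

theorem hom_app_eq {T : Over S} (g : (yon S).obj T ⟶ secSheaf D) {Z : Over S} (b : Z ⟶ T) :
    (g.hom.app (op Z) ⟨b⟩).down = (secOfHom D g).pull b.left (Over.w b) := by
  have h := congrArg ULift.down (NatTrans.naturality_apply g.hom b.op (⟨𝟙 T⟩ : ULift.{u + 1} (T ⟶ T)))
  refine Eq.trans ?_ h
  show (g.hom.app (op Z) ⟨b⟩).down = (g.hom.app (op Z) ⟨b ≫ 𝟙 T⟩).down
  rw [Category.comp_id]

/-- The map to the base. -/
noncomputable def toBase : secSheaf D ⟶ (yon S).obj (Over.mk (𝟙 S)) :=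
  ⟨{ app := fun Z => TypeCat.ofHom fun _ => ⟨Over.homMk Z.unop.hom (Category.comp_id _)⟩
     naturality := fun Z Z' a => by
      apply ConcreteCategory.hom_ext
      intro b
      exact ULift.ext _ _ (Over.OverMorphism.ext (Over.w a.unop).symm) }⟩

theorem base_ext {Z : (Over S)ᵒᵖ} (a b : ((yon S).obj (Over.mk (𝟙 S))).obj.obj Z) : a = b := by
  refine ULift.ext _ _ (Over.OverMorphism.ext ?_)
  have ha := Over.w a.down
  have hb := Over.w b.down
  simp only [Over.mk_hom] at ha hb
  exact ((Category.comp_id a.down.left).symm.trans ha).trans (hb.symm.trans (Category.comp_id b.down.left))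

theorem hom_base_ext {F : AlgSp.Sp S} (a b : F ⟶ (yon S).obj (Over.mk (𝟙 S))) : a = b := by
  apply ObjectProperty.hom_ext
  apply NatTrans.ext
  funext Z
  apply ConcreteCategory.hom_ext
  intro x
  exact base_ext _ _

end Sheaf

variable {S' : Scheme.{u}} {g : S' ⟶ S} {D : Desc.SchDDFam (fun _ : PUnit.{u + 1} => g)}
  [Etale (D.obj PUnit.unit).hom] [IsSeparated (D.obj PUnit.unit).hom]

/-- The equalizer of two maps from a representable is a clopen subscheme. -/
theorem exists_equalizer (hg : SGA1.UnivSubmersive g) {T : Over S} (σ τ : Sec D T.hom) :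
    ∃ (V : Over S) (j : V ⟶ T), IsClosedImmersion j.left ∧ IsOpenImmersion j.left ∧
      σ.pull j.left (Over.w j) = τ.pull j.left (Over.w j) ∧
      ∀ {Z : Over S} (a : Z ⟶ T), σ.pull a.left (Over.w a) = τ.pull a.left (Over.w a) →
        ∃ c : Z ⟶ V, c ≫ j = a := by
  obtain ⟨E, hE, he, hu⟩ := exists_locus hg σ τ
  refine ⟨Over.mk (E.ι ≫ T.hom), Over.homMk E.ι rfl, ?_, inferInstanceAs (IsOpenImmersion E.ι), he,
    fun {Z} a ha => ?_⟩
  · exact IsClosedImmersion.of_isPreimmersion E.ι (by rw [Scheme.Opens.range_ι]; exact hE)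
  · have hr := hu a.left Z.hom (Over.w a) ha
    refine ⟨Over.homMk (IsOpenImmersion.lift E.ι a.left (hr.trans (Scheme.Opens.range_ι E).ge)) ?_,
      Over.OverMorphism.ext (IsOpenImmersion.lift_fac _ _ _)⟩
    show _ ≫ E.ι ≫ T.hom = Z.hom
    rw [IsOpenImmersion.lift_fac_assoc, Over.w a]

/-- Fibre products of two maps from representables. -/
theorem exists_fibre_product (hg : SGA1.UnivSubmersive g) {T W : Over S} (σ : (yon S).obj T ⟶ secSheaf D)
    (τ : (yon S).obj W ⟶ secSheaf D) :
    ∃ (V : Over S) (p : V ⟶ T) (q : V ⟶ W) (j : V.left ⟶ pullback T.hom W.hom),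
      IsPullback ((yon S).map q) ((yon S).map p) τ σ ∧ IsOpenImmersion j ∧ IsClosedImmersion j ∧
      j ≫ pullback.fst T.hom W.hom = p.left := by
  let P : Over S := Over.mk (pullback.fst T.hom W.hom ≫ T.hom)
  let a : P ⟶ T := Over.homMk (pullback.fst T.hom W.hom) rfl
  let b : P ⟶ W := Over.homMk (pullback.snd T.hom W.hom) pullback.condition.symm
  obtain ⟨V, j, hjc, hjo, he, hu⟩ := exists_equalizer hg ((secOfHom D σ).pull a.left (Over.w a))
    ((secOfHom D τ).pull b.left (Over.w b))
  rw [pull_pull _ _ _ _ _ _ rfl (Over.w (j ≫ a)), pull_pull _ _ _ _ _ _ rfl (Over.w (j ≫ b))] at he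
  haveI : Mono j.left := inferInstance
  refine ⟨V, j ≫ a, j ≫ b, j.left, isPullback_of_sections _ _ _ _ ?_ ?_ ?_, hjo, hjc, rfl⟩
  · apply ObjectProperty.hom_ext
    apply NatTrans.ext
    funext Z
    apply ConcreteCategory.hom_ext
    intro (c : ULift.{u + 1} (Z.unop ⟶ V))
    refine ULift.ext _ _ ?_
    show (τ.hom.app Z ⟨c.down ≫ j ≫ b⟩).down = (σ.hom.app Z ⟨c.down ≫ j ≫ a⟩).down
    rw [hom_app_eq, hom_app_eq]
    have h := congrArg (fun ρ : Sec D V.hom => ρ.pull c.down.left (Over.w c.down)) he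
    refine Eq.trans ?_ (Eq.trans h.symm ?_)
    · exact (pull_pull _ _ _ _ _ _ rfl (Over.w (c.down ≫ j ≫ b))).symm
    · exact pull_pull _ _ _ _ _ _ rfl (Over.w (c.down ≫ j ≫ a))
  · intro Z (x : ULift.{u + 1} (Z.unop ⟶ V)) (y : ULift.{u + 1} (Z.unop ⟶ V)) h₁ h₂
    have e₁ : x.down ≫ j ≫ b = y.down ≫ j ≫ b := congrArg ULift.down h₁
    have e₂ : x.down ≫ j ≫ a = y.down ≫ j ≫ a := congrArg ULift.down h₂
    refine ULift.ext _ _ (Over.OverMorphism.ext ((cancel_mono j.left).1 (pullback.hom_ext ?_ ?_)))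
    · have := congrArg (fun m => m.left) e₂
      exact (Category.assoc _ _ _).trans (this.trans (Category.assoc _ _ _).symm)
    · have := congrArg (fun m => m.left) e₁
      exact (Category.assoc _ _ _).trans (this.trans (Category.assoc _ _ _).symm)
  · intro Z (x : ULift.{u + 1} (Z.unop ⟶ W)) (y : ULift.{u + 1} (Z.unop ⟶ T)) hxy
    let m : Z.unop.left ⟶ P.left := pullback.lift y.down.left x.down.left
      ((Over.w y.down).trans (Over.w x.down).symm)
    let m' : Z.unop ⟶ P := Over.homMk m (by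
      show m ≫ pullback.fst T.hom W.hom ≫ T.hom = _
      exact (pullback.lift_fst_assoc _ _ _ _).trans (Over.w y.down))
    have hma : m' ≫ a = y.down := Over.OverMorphism.ext (pullback.lift_fst _ _ _)
    have hmb : m' ≫ b = x.down := Over.OverMorphism.ext (pullback.lift_snd _ _ _)
    have h := congrArg ULift.down hxy
    rw [show x = ⟨x.down⟩ from rfl, show y = ⟨y.down⟩ from rfl] at h
    have h' : (secOfHom D τ).pull x.down.left (Over.w x.down) = (secOfHom D σ).pull y.down.left (Over.w y.down) :=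
      ((hom_app_eq D τ x.down).symm.trans h).trans (hom_app_eq D σ y.down)
    obtain ⟨c, hc⟩ := hu m' ((pull_pull _ _ _ _ _ y.down.left (congrArg (fun k => k.left) hma) (Over.w y.down)).trans
      (h'.symm.trans (pull_pull _ _ _ _ _ x.down.left (congrArg (fun k => k.left) hmb) (Over.w x.down)).symm))
    refine ⟨⟨c⟩, ULift.ext _ _ ?_, ULift.ext _ _ ?_⟩
    · show c ≫ j ≫ b = x.down
      rw [← Category.assoc, hc, hmb]
    · show c ≫ j ≫ a = y.down
      rw [← Category.assoc, hc, hma]

end Groth.Agent.EtEff25
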